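import Mathlib

/-!
# Partial coactions: the algebra behind descent of ind-quasi-affine schemes (helper3)

Abstract form of the following situation.  `V` is a scheme over `T' = Spec A'`, equipped with a
descent datum relative to `Spec A' ⟶ Spec A`, `U₁ ⊆ U₂ ⊆ U₃` are quasi-compact opens of `V` such
that the saturation of `U_i` is contained in `U_{i+1}`; `B_i = Γ(U_i)`, `C_i = Γ(T' ×_T U_i)`,
`D₁ = Γ(T' ×_T T' ×_T U₁)`.  The subalgebra `M₀ ⊆ B₂` of functions which are invariant relative to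
`U₁` is large: the partial coaction `B₃ → A' ⊗ B₂` factors through `A' ⊗ M₀`.
-/

set_option autoImplicit false

universe u

open TensorProduct Algebra.TensorProduct

namespace Groth.Agent.H3.IQA

variable {A A' B₂ B₃ C₁ C₂ D₁ : Type u} [CommRing A] [CommRing A'] [CommRing B₂] [CommRing B₃]
  [CommRing C₁] [CommRing C₂] [CommRing D₁] [Algebra A A'] [Algebra A B₂] [Algebra A' B₂]
  [IsScalarTower A A' B₂] [Algebra A C₁]

/-- The multiplication map `A' ⊗[A] M → B₂` for a subalgebra `M` of `B₂`. -/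
noncomputable def mulMap (M : Subalgebra A B₂) : A' ⊗[A] M →ₐ[A] B₂ :=
  productMap (IsScalarTower.toAlgHom A A' B₂) M.val

@[simp] lemma mulMap_tmul (M : Subalgebra A B₂) (a : A') (m : M) :
    mulMap (A' := A') M (a ⊗ₜ m) = algebraMap A' B₂ a * (m : B₂) := by
  simp [mulMap]

/-- The inclusion `A' ⊗[A] M → A' ⊗[A] B₂`. -/
noncomputable def inclMap (M : Subalgebra A B₂) : A' ⊗[A] M →ₐ[A] A' ⊗[A] B₂ :=
  map (AlgHom.id A A') M.val

omit [Algebra A' B₂] [IsScalarTower A A' B₂] in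
@[simp] lemma inclMap_tmul (M : Subalgebra A B₂) (a : A') (m : M) :
    inclMap (A' := A') M (a ⊗ₜ m) = a ⊗ₜ (m : B₂) := by
  simp [inclMap]

omit [Algebra A' B₂] [IsScalarTower A A' B₂] in
lemma inclMap_injective [Module.Flat A A'] (M : Subalgebra A B₂) :
    Function.Injective (inclMap (A' := A') M) := by
  have h : Function.Injective (M.val.toLinearMap.lTensor A') :=
    Module.Flat.lTensor_preserves_injective_linearMap _ Subtype.val_injective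
  intro x y hxy
  apply h
  exact hxy

theorem exists_theta [Module.Flat A A'] (f₁ f₂ : B₂ →ₐ[A] C₁)
    (q₁s₁ : A' →+* C₁) (q₁s₂ : A' →+* C₂) (q₂s₂ : B₂ →+* C₂)
    (acts₂ : B₃ →+* C₂) (es₂ : C₂ →+* B₂) (resC : C₂ →+* C₁) (res₃₂ : B₃ →+* B₂)
    (r₁s : A' →+* D₁) (r₂s : C₁ →+* D₁) (m₁s m₂s : C₂ →+* D₁)
    (ψ₂ : A' ⊗[A] B₂ ≃+* C₂) (hψ₂ : ∀ a b, ψ₂ (a ⊗ₜ b) = q₁s₂ a * q₂s₂ b)
    (ψ₃ : A' ⊗[A] C₁ ≃+* D₁) (hψ₃ : ∀ a x, ψ₃ (a ⊗ₜ x) = r₁s a * r₂s x)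
    (hi₁ : ∀ a : A', f₁ (algebraMap A' B₂ a) = q₁s₁ a)
    (he1 : ∀ a, es₂ (q₁s₂ a) = algebraMap A' B₂ a) (he2 : ∀ b, es₂ (q₂s₂ b) = b)
    (he3 : ∀ f, es₂ (acts₂ f) = res₃₂ f)
    (hrC1 : ∀ a, resC (q₁s₂ a) = q₁s₁ a) (hrC2 : ∀ b, resC (q₂s₂ b) = f₂ b)
    (hm11 : ∀ a, m₁s (q₁s₂ a) = r₁s a) (hm12 : ∀ b, m₁s (q₂s₂ b) = r₂s (f₁ b))
    (hm21 : ∀ a, m₂s (q₁s₂ a) = r₁s a) (hm22 : ∀ b, m₂s (q₂s₂ b) = r₂s (f₂ b))
    (hm : ∀ f, m₁s (acts₂ f) = m₂s (acts₂ f)) :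
    ∃ Θ : B₃ →+* A' ⊗[A] AlgHom.equalizer f₁ f₂,
      (∀ f, ψ₂ (inclMap (AlgHom.equalizer f₁ f₂) (Θ f)) = acts₂ f) ∧
      (∀ f, mulMap (AlgHom.equalizer f₁ f₂) (Θ f) = res₃₂ f) ∧
      (∀ z : A' ⊗[A] AlgHom.equalizer f₁ f₂,
        mulMap (AlgHom.equalizer f₁ f₂) z = es₂ (ψ₂ (inclMap (AlgHom.equalizer f₁ f₂) z))) ∧
      (∀ z : A' ⊗[A] AlgHom.equalizer f₁ f₂,
        resC (ψ₂ (inclMap (AlgHom.equalizer f₁ f₂) z)) =
          f₁ (mulMap (AlgHom.equalizer f₁ f₂) z)) := by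
  set M₀ := AlgHom.equalizer f₁ f₂ with hM₀
  let e := AlgHom.tensorEqualizerEquiv A A' f₁ f₂
  have he : ∀ x : A' ⊗[A] M₀, ((e x : _) : A' ⊗[A] B₂) = inclMap M₀ x := fun x => by
    change ((AlgHom.tensorEqualizer A A' f₁ f₂ x : _) : A' ⊗[A] B₂) = _
    rw [AlgHom.coe_tensorEqualizer]
    rfl
  have keyA : ∀ z : A' ⊗[A] B₂, ψ₃ (map (AlgHom.id A A') f₁ z) = m₁s (ψ₂ z) := by
    intro z
    induction z using TensorProduct.induction_on with
    | zero => simp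
    | tmul a b =>
      rw [Algebra.TensorProduct.map_tmul, AlgHom.id_apply, hψ₃, hψ₂, map_mul, hm11, hm12]
    | add x y hx hy => simp only [map_add, hx, hy]
  have keyB : ∀ z : A' ⊗[A] B₂, ψ₃ (map (AlgHom.id A A') f₂ z) = m₂s (ψ₂ z) := by
    intro z
    induction z using TensorProduct.induction_on with
    | zero => simp
    | tmul a b =>
      rw [Algebra.TensorProduct.map_tmul, AlgHom.id_apply, hψ₃, hψ₂, map_mul, hm21, hm22]
    | add x y hx hy => simp only [map_add, hx, hy]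
  have hmem : ∀ f : B₃, (ψ₂.symm (acts₂ f)) ∈
      AlgHom.equalizer (map (AlgHom.id A A') f₁) (map (AlgHom.id A A') f₂) := by
    intro f
    rw [AlgHom.mem_equalizer]
    apply ψ₃.injective
    rw [keyA, keyB, RingEquiv.apply_symm_apply, hm]
  let Θ₀ : B₃ →+* AlgHom.equalizer (map (AlgHom.id A A') f₁) (map (AlgHom.id A A') f₂) :=
    RingHom.codRestrict ((ψ₂.symm : C₂ →+* A' ⊗[A] B₂).comp acts₂) _ hmem
  let Θ : B₃ →+* A' ⊗[A] M₀ := (e.symm : _ →+* A' ⊗[A] M₀).comp Θ₀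
  have hΘ : ∀ f, ψ₂ (inclMap M₀ (Θ f)) = acts₂ f := by
    intro f
    rw [← he]
    change ψ₂ ((e (e.symm (Θ₀ f)) : _) : A' ⊗[A] B₂) = _
    rw [AlgEquiv.apply_symm_apply]
    change ψ₂ (ψ₂.symm (acts₂ f)) = _
    rw [RingEquiv.apply_symm_apply]
  have hmul : ∀ z : A' ⊗[A] M₀, mulMap M₀ z = es₂ (ψ₂ (inclMap M₀ z)) := by
    intro z
    induction z using TensorProduct.induction_on with
    | zero => simp
    | tmul a m => rw [mulMap_tmul, inclMap_tmul, hψ₂, map_mul, he1, he2]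
    | add x y hx hy => simp only [map_add, hx, hy]
  refine ⟨Θ, hΘ, fun f => by rw [hmul, hΘ, he3], hmul, ?_⟩
  intro z
  induction z using TensorProduct.induction_on with
  | zero => simp
  | tmul a m =>
    have hm' : f₁ (m : B₂) = f₂ (m : B₂) := m.2
    rw [inclMap_tmul, hψ₂, map_mul, hrC1, hrC2, mulMap_tmul, map_mul, hi₁, hm']
  | add x y hx hy => simp only [map_add, hx, hy]

end Groth.Agent.H3.IQA
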