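import Groth.Agent.Lib.Helper3.IQA.Orbit
import Groth.Agent.Lib.Lead.QC.SepAmple
import Groth.Agent.S2324
import Mathlib

/-!
# Descent along finite flat surjective morphisms of schemes with an ample invertible module
(helper3)
-/

set_option autoImplicit false

universe u

open CategoryTheory CategoryTheory.Limits AlgebraicGeometry Opposite TopologicalSpace

namespace Groth.Agent.H3.IQA

open Desc

/-- On a scheme with an ample invertible module, every finite set of points is contained in an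
affine open. -/
theorem exists_isAffineOpen_of_isAmple {V : Scheme.{u}} (L : V.Modules) (hL : CohB1.IsAmple L)
    (Z : Set V) (hZ : Z.Finite) : ∃ U : V.Opens, IsAffineOpen U ∧ Z ⊆ U := by
  have hc : CompactSpace V := hL.2.1
  have hs : V.IsSeparated := Groth.Agent.LD.QC.isSeparated_of_affine_genLocus L hL.1 hL.2.2
  obtain ⟨n, s, h1, -, h3⟩ := Groth.Agent.S2324.result V L hL Z hZ ⊤ (fun _ _ => trivial)
  exact ⟨_, h3, h1⟩

/-- **Descent along a finite flat surjective morphism of schemes with an ample invertible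
module.** -/
theorem effective_of_finite_of_isAmple {X Y : Scheme.{u}} (p : X ⟶ Y) [Surjective p] [IsFinite p]
    [Flat p] (D : SchDD p) (L : D.obj.left.Modules) (hL : CohB1.IsAmple L) :
    ∃ W : Over Y, Nonempty ((toDD p).obj W ≅ D) := by
  apply effective_of_finite_of_fibres_in_affine p D
  intro y s _
  obtain ⟨U, hU, hsU⟩ := exists_isAffineOpen_of_isAmple L hL (s : Set D.obj.left) s.finite_toSet
  exact ⟨U, hU, fun v hv => hsU hv⟩

/-- **Descent along a finite flat surjective morphism of schemes with a relatively ample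
invertible module.** -/
theorem effective_of_finite_of_isRelAmple {X Y : Scheme.{u}} (p : X ⟶ Y) [Surjective p]
    [IsFinite p] [Flat p] (D : SchDD p) (L : D.obj.left.Modules)
    (hL : RelAmple.IsRelAmple D.obj.hom L) :
    ∃ W : Over Y, Nonempty ((toDD p).obj W ≅ D) := by
  classical
  apply effective_of_finite_of_fibres_in_affine p D
  intro y s hs
  -- an affine open neighbourhood of `y` and its preimage in `X`
  obtain ⟨Y₀, hY₀, hyY₀⟩ : ∃ Y₀ : Y.Opens, IsAffineOpen Y₀ ∧ y ∈ Y₀ := by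
    obtain ⟨_, ⟨Y₀, hY₀, rfl⟩, hy, -⟩ := Y.isBasis_affineOpens.exists_subset_of_mem_open
      (Set.mem_univ y) isOpen_univ
    exact ⟨Y₀, hY₀, hy⟩
  have hX₀ : IsAffineOpen (p ⁻¹ᵁ Y₀) := hY₀.preimage p
  have hA := hL.2 ⟨p ⁻¹ᵁ Y₀, hX₀⟩
  -- the points of `s` lie in `V₀`
  have hsV₀ : ∀ v ∈ s, v ∈ D.obj.hom ⁻¹ᵁ (p ⁻¹ᵁ Y₀) := by
    intro v hv
    change p (D.obj.hom v) ∈ Y₀
    rw [hs v hv]
    exact hyY₀
  let Z : Set (D.obj.hom ⁻¹ᵁ (p ⁻¹ᵁ Y₀) : Scheme.{u}) :=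
    (D.obj.hom ⁻¹ᵁ (p ⁻¹ᵁ Y₀)).ι ⁻¹' (s : Set D.obj.left)
  have hZ : Z.Finite := s.finite_toSet.preimage
    ((D.obj.hom ⁻¹ᵁ (p ⁻¹ᵁ Y₀)).ι.isOpenEmbedding.injective.injOn)
  obtain ⟨U, hU, hZU⟩ := exists_isAffineOpen_of_isAmple _ hA Z hZ
  refine ⟨(D.obj.hom ⁻¹ᵁ (p ⁻¹ᵁ Y₀)).ι ''ᵁ U,
    hU.image_of_isOpenImmersion (D.obj.hom ⁻¹ᵁ (p ⁻¹ᵁ Y₀)).ι, fun v hv => ?_⟩
  exact ⟨⟨v, hsV₀ v hv⟩, hZU (show (⟨v, hsV₀ v hv⟩ : (D.obj.hom ⁻¹ᵁ (p ⁻¹ᵁ Y₀) : Scheme.{u})) ∈ Z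
    from hv), rfl⟩

end Groth.Agent.H3.IQA
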