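import Mathlib

/-!
# Flat base change for sections over a quasi-compact quasi-separated open, in tensor product form
(helper3)
-/

set_option autoImplicit false

universe u

open CategoryTheory CategoryTheory.Limits AlgebraicGeometry Opposite TensorProduct
  Algebra.TensorProduct TopologicalSpace

namespace Groth.Agent.H3.IQA

/-- Composition of `appLE`s, elementwise, with the composite given by an equation. -/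
lemma appLE_comp_eq {X Y Z : Scheme.{u}} (f : X ⟶ Y) (g : Y ⟶ Z) (k : X ⟶ Z) (hk : f ≫ g = k)
    (U : Z.Opens) (V : Y.Opens) (W : X.Opens) (e₁ : V ≤ g ⁻¹ᵁ U) (e₂ : W ≤ f ⁻¹ᵁ V)
    (e₃ : W ≤ k ⁻¹ᵁ U) (x : Γ(Z, U)) :
    (f.appLE V W e₂).hom ((g.appLE U V e₁).hom x) = (k.appLE U W e₃).hom x := by
  subst hk
  have := Scheme.Hom.appLE_comp_appLE f g U V W e₁ e₂
  exact congrArg (fun φ => φ.hom x) this

/-- Two factorizations of the same morphism induce the same map on sections. -/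
lemma appLE_comm {X Y Y' Z : Scheme.{u}} (f : X ⟶ Y) (g : Y ⟶ Z) (f' : X ⟶ Y') (g' : Y' ⟶ Z)
    (h : f ≫ g = f' ≫ g') (U : Z.Opens) (V : Y.Opens) (V' : Y'.Opens) (W : X.Opens)
    (e₁ : V ≤ g ⁻¹ᵁ U) (e₂ : W ≤ f ⁻¹ᵁ V) (e₁' : V' ≤ g' ⁻¹ᵁ U) (e₂' : W ≤ f' ⁻¹ᵁ V')
    (x : Γ(Z, U)) :
    (f.appLE V W e₂).hom ((g.appLE U V e₁).hom x) =
      (f'.appLE V' W e₂').hom ((g'.appLE U V' e₁').hom x) := by
  have e₃ : W ≤ (f ≫ g) ⁻¹ᵁ U := e₂.trans ((Opens.map f.base).map (homOfLE e₁)).le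
  rw [appLE_comp_eq f g (f ≫ g) rfl U V W e₁ e₂ e₃ x,
    appLE_comp_eq f' g' (f ≫ g) h.symm U V' W e₁' e₂' e₃ x]

lemma id_appLE_apply {X : Scheme.{u}} (U W : X.Opens) (e : W ≤ (𝟙 X) ⁻¹ᵁ U) (x : Γ(X, U)) :
    (Scheme.Hom.appLE (𝟙 X) U W e).hom x = (X.presheaf.map (homOfLE e).op).hom x := by
  simp [Scheme.Hom.appLE]
  rfl

/-- Flat base change for sections over a quasi-compact quasi-separated open, in tensor product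
form. -/
theorem exists_ringEquiv_opens {X Y T₀ T₁ : Scheme.{u}} {f : T₁ ⟶ T₀} {g : Y ⟶ X} {iX : X ⟶ T₀}
    {iY : Y ⟶ T₁} (H : IsPullback g iY iX f) [Flat f] [IsAffine T₀] [IsAffine T₁] (UX : X.Opens)
    (hc : IsCompact (UX : Set X)) (hqs : IsQuasiSeparated (UX : Set X))
    [Algebra Γ(T₀, ⊤) Γ(T₁, ⊤)] [Algebra Γ(T₀, ⊤) Γ(X, UX)]
    (h₁ : algebraMap Γ(T₀, ⊤) Γ(T₁, ⊤) = f.appTop.hom)
    (h₂ : algebraMap Γ(T₀, ⊤) Γ(X, UX) = (iX.appLE ⊤ UX le_top).hom) :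
    ∃ ψ : Γ(T₁, ⊤) ⊗[Γ(T₀, ⊤)] Γ(X, UX) ≃+* Γ(Y, g ⁻¹ᵁ UX),
      ∀ a b, ψ (a ⊗ₜ b) = (iY.appLE ⊤ (g ⁻¹ᵁ UX) le_top).hom a *
        (g.appLE UX (g ⁻¹ᵁ UX) le_rfl).hom b := by
  have hUST : (⊤ : T₁.Opens) ≤ f ⁻¹ᵁ ⊤ := le_rfl
  have hUSX : UX ≤ iX ⁻¹ᵁ ⊤ := le_top
  have hUY : g ⁻¹ᵁ UX = g ⁻¹ᵁ UX ⊓ iY ⁻¹ᵁ ⊤ := by simp
  have hiso := isIso_pushoutSection_of_isQuasiSeparated_of_flat_right H hUST hUSX hUY
    (isAffineOpen_top T₀) (isAffineOpen_top T₁) hc hqs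
  have P1 := ((isIso_pushoutSection_iff H hUST hUSX hUY).1 hiso).flip
  have P2 := CommRingCat.isPushout_tensorProduct Γ(T₀, ⊤) Γ(T₁, ⊤) Γ(X, UX)
  have e1 : CommRingCat.ofHom (algebraMap Γ(T₀, ⊤) Γ(T₁, ⊤)) = f.appLE ⊤ ⊤ hUST := by
    rw [h₁]
    change f.appTop = _
    exact (f.appLE_eq_app (U := ⊤)).symm
  have e2 : CommRingCat.ofHom (algebraMap Γ(T₀, ⊤) Γ(X, UX)) = iX.appLE ⊤ UX hUSX := by
    rw [h₂]; rfl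
  rw [e1, e2] at P2
  let i := P2.isoIsPushout _ _ P1
  refine ⟨i.commRingCatIsoToRingEquiv, fun a b => ?_⟩
  have hl : ∀ a, i.hom (a ⊗ₜ 1) = (iY.appLE ⊤ (g ⁻¹ᵁ UX) le_top).hom a := fun a => by
    have := congrArg (fun φ => φ.hom a) (P2.inl_isoIsPushout_hom _ _ P1)
    exact this
  have hr : ∀ b, i.hom (1 ⊗ₜ b) = (g.appLE UX (g ⁻¹ᵁ UX) le_rfl).hom b := fun b => by
    have := congrArg (fun φ => φ.hom b) (P2.inr_isoIsPushout_hom _ _ P1)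
    exact this
  change i.hom (a ⊗ₜ b) = _
  have hab : (a ⊗ₜ[Γ(T₀, ⊤)] b : Γ(T₁, ⊤) ⊗[Γ(T₀, ⊤)] Γ(X, UX)) = (a ⊗ₜ 1) * (1 ⊗ₜ b) := by
    simp
  rw [hab, map_mul, hl, hr]

end Groth.Agent.H3.IQA
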