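import Groth.Agent.Lib.Helper3.IQA.Setup
import Groth.Agent.Lib.Helper3.IQA.Alg
import Groth.Agent.Lib.Helper3.IQA.OpensBC
import Mathlib

/-!
# Partial descent of functions along the action groupoid (helper3)
-/

set_option autoImplicit false

universe u

open CategoryTheory CategoryTheory.Limits AlgebraicGeometry Opposite TensorProduct
  Algebra.TensorProduct TopologicalSpace

namespace Groth.Agent.H3.IQA

open _root_.AlgSp Groth.Agent.H5.AlgSp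

variable {S : Scheme.{u}} {T T' V : Over S} {c : T' ⟶ T} {v : V ⟶ T'} {F : Sp S}
  {π : F ⟶ (yon S).obj T} {u : (yon S).obj V ⟶ F}
  (sq : IsPullback u ((yon S).map v) π ((yon S).map c))

lemma id_appLE_self {X : Scheme.{u}} (U : X.Opens) (e : U ≤ (𝟙 X) ⁻¹ᵁ U) (x : Γ(X, U)) :
    (Scheme.Hom.appLE (𝟙 X) U U e).hom x = x := by
  rw [id_appLE_apply]
  have h : (homOfLE e).op = 𝟙 (op U) := rfl
  have h2 : X.presheaf.map (homOfLE e).op = 𝟙 _ := by rw [h]; exact X.presheaf.map_id _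
  rw [h2]
  rfl

lemma preimage_le {X Y : Scheme.{u}} (f : X ⟶ Y) {U U' : Y.Opens} (h : U ≤ U') :
    f ⁻¹ᵁ U ≤ f ⁻¹ᵁ U' := fun _ hx => h hx

lemma isQuasiSeparated_preimage_of_isAffineHom {X Y : Scheme.{u}} (f : X ⟶ Y) [IsAffineHom f]
    (U : Y.Opens) (hU : IsQuasiSeparated (U : Set Y)) :
    IsQuasiSeparated ((f ⁻¹ᵁ U : X.Opens) : Set X) := by
  have h1 : QuasiSeparatedSpace (U : Scheme.{u}) :=
    (isQuasiSeparated_iff_quasiSeparatedSpace _ U.2).1 hU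
  have h2 : QuasiSeparatedSpace (f ⁻¹ᵁ U : Scheme.{u}) :=
    quasiSeparatedSpace_of_quasiSeparated (f ∣_ U)
  exact (isQuasiSeparated_iff_quasiSeparatedSpace _ (f ⁻¹ᵁ U).2).2 h2

/-- **Partial descent of functions.** `U₁ ≤ U₂ ≤ U₃` quasi-compact opens of `V` such that the
saturation of `U_i` is contained in `U_{i+1}`.  The ring `M₀` of functions on `U₂` which are
invariant relative to `U₁` is so large that the partial coaction `Γ(U₃) → Γ(T' ×_T U₂)` factors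
through `N = Γ(T') ⊗ M₀`. -/
theorem exists_partial_descent [IsAffine T.left] [IsAffine T'.left] [Flat c.left]
    (U₁ U₂ U₃ : V.left.Opens) (h12 : U₁ ≤ U₂) (h23 : U₂ ≤ U₃)
    (hc₁ : IsCompact (U₁ : Set V.left)) (hc₂ : IsCompact (U₂ : Set V.left))
    (hqs : IsQuasiSeparated (U₂ : Set V.left)) (s12 : Sat u U₁ U₂) (s23 : Sat u U₂ U₃) :
    ∃ (N : Type u) (_ : CommRing N)
      (ρ : RingHom.eqLocus
        ((act sq).left.appLE U₂ ((pullback.snd c (v ≫ c)).left ⁻¹ᵁ U₁) (s12.snd_le_act sq)).hom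
        ((pullback.snd c (v ≫ c)).left.appLE U₂ ((pullback.snd c (v ≫ c)).left ⁻¹ᵁ U₁)
          (preimage_le _ h12)).hom →+* N)
      (α : Γ(T'.left, ⊤) →+* N) (μ : N →+* Γ(V.left, U₂)) (Θ : Γ(V.left, U₃) →+* N)
      (κ : N →+* Γ((pullback c (v ≫ c)).left, (pullback.snd c (v ≫ c)).left ⁻¹ᵁ U₂)),
      (∀ m, μ (ρ m) = m.1) ∧
      (∀ a, μ (α a) = (v.left.appLE ⊤ U₂ le_top).hom a) ∧
      (∀ f, μ (Θ f) = (V.left.presheaf.map (homOfLE h23).op).hom f) ∧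
      Function.Injective κ ∧
      (∀ f, κ (Θ f) = ((act sq).left.appLE U₃ ((pullback.snd c (v ≫ c)).left ⁻¹ᵁ U₂)
        (s23.snd_le_act sq)).hom f) ∧
      (∀ z, ((pullback c (v ≫ c)).left.presheaf.map
          (homOfLE (preimage_le (pullback.snd c (v ≫ c)).left h12)).op).hom (κ z) =
        ((act sq).left.appLE U₂ ((pullback.snd c (v ≫ c)).left ⁻¹ᵁ U₁)
          (s12.snd_le_act sq)).hom (μ z)) ∧
      ρ.Flat ∧
      (∀ (R : Type u) [CommRing R] (f g : N →+* R), f.comp ρ = g.comp ρ → f.comp α = g.comp α →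
        f = g) ∧
      (∀ a₀ : Γ(T.left, ⊤), ∃ hm, ρ ⟨((v ≫ c).left.appLE ⊤ U₂ le_top).hom a₀, hm⟩ =
        α (c.left.appTop.hom a₀)) := by
  -- notation
  set q₁ := pullback.fst c (v ≫ c) with hq₁
  set q₂ := pullback.snd c (v ≫ c) with hq₂
  set r₁ := pullback.fst c (q₂ ≫ v ≫ c) with hr₁
  set r₂ := pullback.snd c (q₂ ≫ v ≫ c) with hr₂
  have hcond2 : q₁ ≫ c = q₂ ≫ v ≫ c := pullback.condition
  have hcond3 : r₁ ≫ c = r₂ ≫ q₂ ≫ v ≫ c := pullback.condition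
  have hq₂aff : IsAffineHom q₂.left := isAffineHom_snd
  -- opens
  have hcW₁ : IsCompact ((q₂.left ⁻¹ᵁ U₁ : (pullback c (v ≫ c)).left.Opens) :
      Set (pullback c (v ≫ c)).left) :=
    QuasiCompact.isCompact_preimage (f := q₂.left) _ U₁.2 hc₁
  have hqs₁ : IsQuasiSeparated (U₁ : Set V.left) := hqs.of_subset h12
  have hqsW₁ : IsQuasiSeparated ((q₂.left ⁻¹ᵁ U₁ : (pullback c (v ≫ c)).left.Opens) :
      Set (pullback c (v ≫ c)).left) :=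
    isQuasiSeparated_preimage_of_isAffineHom q₂.left U₁ hqs₁
  -- algebra structures
  let _ : Algebra Γ(T.left, ⊤) Γ(T'.left, ⊤) := c.left.appTop.hom.toAlgebra
  let _ : Algebra Γ(T'.left, ⊤) Γ(V.left, U₂) := (v.left.appLE ⊤ U₂ le_top).hom.toAlgebra
  let _ : Algebra Γ(T.left, ⊤) Γ(V.left, U₂) := ((v ≫ c).left.appLE ⊤ U₂ le_top).hom.toAlgebra
  let _ : Algebra Γ(T.left, ⊤) Γ((pullback c (v ≫ c)).left, q₂.left ⁻¹ᵁ U₁) :=
    ((q₂ ≫ v ≫ c).left.appLE ⊤ (q₂.left ⁻¹ᵁ U₁) le_top).hom.toAlgebra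
  have htower : IsScalarTower Γ(T.left, ⊤) Γ(T'.left, ⊤) Γ(V.left, U₂) := by
    apply IsScalarTower.of_algebraMap_eq
    intro a
    change ((v ≫ c).left.appLE ⊤ U₂ le_top).hom a =
      (v.left.appLE ⊤ U₂ le_top).hom (c.left.appTop.hom a)
    have h0 : c.left.appTop = c.left.appLE ⊤ ⊤ le_top := (c.left.appLE_eq_app (U := ⊤)).symm
    rw [h0]
    exact (appLE_comp_eq v.left c.left (v ≫ c).left rfl ⊤ ⊤ U₂ le_top le_top le_top a).symm
  have hflat : Module.Flat Γ(T.left, ⊤) Γ(T'.left, ⊤) :=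
    (HasRingHomProperty.iff_of_isAffine (P := @Flat)).1 (inferInstanceAs (Flat c.left))
  -- flat base change
  have H₂ : IsPullback q₂.left q₁.left (v ≫ c).left c.left :=
    (IsPullback.of_hasPullback c (v ≫ c)).flip.map (Over.forget S)
  have H₃ : IsPullback r₂.left r₁.left (q₂ ≫ v ≫ c).left c.left :=
    (IsPullback.of_hasPullback c (q₂ ≫ v ≫ c)).flip.map (Over.forget S)
  obtain ⟨ψ₂, hψ₂⟩ := exists_ringEquiv_opens H₂ U₂ hc₂ hqs rfl rfl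
  obtain ⟨ψ₃, hψ₃⟩ := exists_ringEquiv_opens H₃ (q₂.left ⁻¹ᵁ U₁) hcW₁ hqsW₁ rfl rfl
  -- morphism identities
  have E1 : (act sq).left ≫ (v ≫ c).left = (q₂ ≫ v ≫ c).left := by
    rw [← Over.comp_left, ← Category.assoc, act_v, hcond2]
  have E2 : (act sq).left ≫ v.left = q₁.left := by rw [← Over.comp_left, act_v]
  have E3 : (unitSec c v).left ≫ q₁.left = v.left := by rw [← Over.comp_left, unitSec_fst]
  have E4 : (unitSec c v).left ≫ q₂.left = 𝟙 V.left := by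
    rw [← Over.comp_left, unitSec_snd]; rfl
  have E5 : (unitSec c v).left ≫ (act sq).left = 𝟙 V.left := by
    rw [← Over.comp_left, unitSec_act]; rfl
  have E6 : (m₁ sq).left ≫ q₁.left = r₁.left := by rw [← Over.comp_left, m₁_fst]
  have E7 : (m₁ sq).left ≫ q₂.left = r₂.left ≫ (act sq).left := by
    rw [← Over.comp_left, m₁_snd]; rfl
  have E8 : (m₂ c v).left ≫ q₁.left = r₁.left := by rw [← Over.comp_left, m₂_fst]
  have E9 : (m₂ c v).left ≫ q₂.left = r₂.left ≫ q₂.left := by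
    rw [← Over.comp_left, m₂_snd]; rfl
  have E10 : (m₁ sq).left ≫ (act sq).left = (m₂ c v).left ≫ (act sq).left := by
    rw [← Over.comp_left, m₁_act]; rfl
  -- inequalities of opens
  have l12 : q₂.left ⁻¹ᵁ U₁ ≤ (act sq).left ⁻¹ᵁ U₂ := s12.snd_le_act sq
  have l23 : q₂.left ⁻¹ᵁ U₂ ≤ (act sq).left ⁻¹ᵁ U₃ := s23.snd_le_act sq
  have lq : q₂.left ⁻¹ᵁ U₁ ≤ q₂.left ⁻¹ᵁ U₂ := preimage_le _ h12
  have le : U₂ ≤ (unitSec c v).left ⁻¹ᵁ (q₂.left ⁻¹ᵁ U₂) := by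
    intro x hx
    change ((unitSec c v).left ≫ q₂.left) x ∈ U₂
    rw [E4]
    exact hx
  have lm₁ : r₂.left ⁻¹ᵁ (q₂.left ⁻¹ᵁ U₁) ≤ (m₁ sq).left ⁻¹ᵁ (q₂.left ⁻¹ᵁ U₂) := by
    intro x hx
    change ((m₁ sq).left ≫ q₂.left) x ∈ U₂
    rw [E7]
    exact l12 hx
  have lm₂ : r₂.left ⁻¹ᵁ (q₂.left ⁻¹ᵁ U₁) ≤ (m₂ c v).left ⁻¹ᵁ (q₂.left ⁻¹ᵁ U₂) := by
    intro x hx
    change ((m₂ c v).left ≫ q₂.left) x ∈ U₂
    rw [E9]
    exact h12 hx
  -- the two maps `Γ(U₂) → Γ(T' ×_T U₁)`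
  let f₁ : Γ(V.left, U₂) →ₐ[Γ(T.left, ⊤)] Γ((pullback c (v ≫ c)).left, q₂.left ⁻¹ᵁ U₁) :=
    { ((act sq).left.appLE U₂ (q₂.left ⁻¹ᵁ U₁) l12).hom with
      commutes' := fun a =>
        appLE_comp_eq (act sq).left (v ≫ c).left (q₂ ≫ v ≫ c).left E1 ⊤ U₂ _ le_top l12 le_top a }
  let f₂ : Γ(V.left, U₂) →ₐ[Γ(T.left, ⊤)] Γ((pullback c (v ≫ c)).left, q₂.left ⁻¹ᵁ U₁) :=
    { (q₂.left.appLE U₂ (q₂.left ⁻¹ᵁ U₁) lq).hom with
      commutes' := fun a =>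
        appLE_comp_eq q₂.left (v ≫ c).left (q₂ ≫ v ≫ c).left rfl ⊤ U₂ _ le_top lq le_top a }
  obtain ⟨Θ, hΘ1, hΘ2, hmul, hres⟩ := exists_theta f₁ f₂
    (q₁.left.appLE ⊤ (q₂.left ⁻¹ᵁ U₁) le_top).hom
    (q₁.left.appLE ⊤ (q₂.left ⁻¹ᵁ U₂) le_top).hom
    (q₂.left.appLE U₂ (q₂.left ⁻¹ᵁ U₂) le_rfl).hom
    ((act sq).left.appLE U₃ (q₂.left ⁻¹ᵁ U₂) l23).hom
    ((unitSec c v).left.appLE (q₂.left ⁻¹ᵁ U₂) U₂ le).hom
    ((pullback c (v ≫ c)).left.presheaf.map (homOfLE lq).op).hom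
    (V.left.presheaf.map (homOfLE h23).op).hom
    (r₁.left.appLE ⊤ (r₂.left ⁻¹ᵁ (q₂.left ⁻¹ᵁ U₁)) le_top).hom
    (r₂.left.appLE (q₂.left ⁻¹ᵁ U₁) (r₂.left ⁻¹ᵁ (q₂.left ⁻¹ᵁ U₁)) le_rfl).hom
    ((m₁ sq).left.appLE (q₂.left ⁻¹ᵁ U₂) (r₂.left ⁻¹ᵁ (q₂.left ⁻¹ᵁ U₁)) lm₁).hom
    ((m₂ c v).left.appLE (q₂.left ⁻¹ᵁ U₂) (r₂.left ⁻¹ᵁ (q₂.left ⁻¹ᵁ U₁)) lm₂).hom
    ψ₂ hψ₂ ψ₃ hψ₃
    (fun a => appLE_comp_eq (act sq).left v.left q₁.left E2 ⊤ U₂ _ le_top l12 le_top a)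
    (fun a => appLE_comp_eq (unitSec c v).left q₁.left v.left E3 ⊤ _ U₂ le_top le le_top a)
    (fun b => by
      rw [appLE_comp_eq (unitSec c v).left q₂.left (𝟙 V.left) E4 U₂ _ U₂ le_rfl le le_rfl b]
      exact id_appLE_self U₂ le_rfl b)
    (fun f => by
      rw [appLE_comp_eq (unitSec c v).left (act sq).left (𝟙 V.left) E5 U₃ _ U₂ l23 le h23 f]
      exact id_appLE_apply U₃ U₂ h23 f)
    (fun a => congrArg (fun φ => φ.hom a) (q₁.left.appLE_map le_top (homOfLE lq).op))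
    (fun b => congrArg (fun φ => φ.hom b) (q₂.left.appLE_map le_rfl (homOfLE lq).op))
    (fun a => appLE_comp_eq (m₁ sq).left q₁.left r₁.left E6 ⊤ _ _ le_top lm₁ le_top a)
    (fun b => appLE_comm (m₁ sq).left q₂.left r₂.left (act sq).left E7 U₂ _ _ _ le_rfl lm₁ l12
      le_rfl b)
    (fun a => appLE_comp_eq (m₂ c v).left q₁.left r₁.left E8 ⊤ _ _ le_top lm₂ le_top a)
    (fun b => appLE_comm (m₂ c v).left q₂.left r₂.left q₂.left E9 U₂ _ _ _ le_rfl lm₂ lq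
      le_rfl b)
    (fun f => appLE_comm (m₁ sq).left (act sq).left (m₂ c v).left (act sq).left E10 U₃ _ _ _ l23
      lm₁ l23 lm₂ f)
  -- the ring `N`
  let E : Subalgebra Γ(T.left, ⊤) Γ(V.left, U₂) := AlgHom.equalizer f₁ f₂
  let toE : RingHom.eqLocus ((act sq).left.appLE U₂ (q₂.left ⁻¹ᵁ U₁) l12).hom
      (q₂.left.appLE U₂ (q₂.left ⁻¹ᵁ U₁) lq).hom →+* E :=
    RingHom.codRestrict (Subring.subtype _) E (fun m => m.2)
  have htoE : ∀ m, ((toE m : E) : Γ(V.left, U₂)) = m.1 := fun m => rfl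
  have htoE_surj : Function.Surjective toE := fun m => ⟨⟨m.1, m.2⟩, rfl⟩
  have htoE_inj : Function.Injective toE := fun m m' h => Subtype.ext (congrArg Subtype.val h)
  let incR : E →+* Γ(T'.left, ⊤) ⊗[Γ(T.left, ⊤)] E :=
    (includeRight : E →ₐ[Γ(T.left, ⊤)] Γ(T'.left, ⊤) ⊗[Γ(T.left, ⊤)] E).toRingHom
  let incL : Γ(T'.left, ⊤) →+* Γ(T'.left, ⊤) ⊗[Γ(T.left, ⊤)] E :=
    (includeLeft : Γ(T'.left, ⊤) →ₐ[Γ(T.left, ⊤)] Γ(T'.left, ⊤) ⊗[Γ(T.left, ⊤)] E).toRingHom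
  have hincR : ∀ m : E, incR m = 1 ⊗ₜ m := fun m => rfl
  have hincL : ∀ a : Γ(T'.left, ⊤), incL a = a ⊗ₜ 1 := fun a => rfl
  refine ⟨Γ(T'.left, ⊤) ⊗[Γ(T.left, ⊤)] E, inferInstance, incR.comp toE, incL,
    (mulMap E).toRingHom, Θ, (ψ₂ : _ →+* _).comp (inclMap E).toRingHom,
    ?_, ?_, ?_, ?_, ?_, ?_, ?_, ?_, ?_⟩
  · intro m
    change mulMap E (1 ⊗ₜ toE m) = m.1
    rw [mulMap_tmul, map_one, one_mul, htoE]
  · intro a
    change mulMap E (a ⊗ₜ 1) = _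
    rw [mulMap_tmul]
    change (v.left.appLE ⊤ U₂ le_top).hom a * 1 = _
    rw [mul_one]
  · intro f
    exact hΘ2 f
  · intro z z' h
    apply inclMap_injective E
    exact ψ₂.injective h
  · intro f
    exact hΘ1 f
  · intro z
    exact hres z
  · -- flatness
    have h1 : toE.Flat := RingHom.Flat.of_bijective ⟨htoE_inj, htoE_surj⟩
    have h2 : incR.Flat := by
      let cm := Algebra.TensorProduct.comm Γ(T.left, ⊤) E Γ(T'.left, ⊤)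
      let cmR : E ⊗[Γ(T.left, ⊤)] Γ(T'.left, ⊤) →+* Γ(T'.left, ⊤) ⊗[Γ(T.left, ⊤)] E :=
        cm.toRingEquiv.toRingHom
      have h3 : (algebraMap E (E ⊗[Γ(T.left, ⊤)] Γ(T'.left, ⊤))).Flat :=
        RingHom.flat_algebraMap_iff.2 inferInstance
      have h4 : cmR.Flat := RingHom.Flat.of_bijective cm.bijective
      have h5 : incR = cmR.comp (algebraMap E _) := by
        ext m
        change (1 : Γ(T'.left, ⊤)) ⊗ₜ m = cm (m ⊗ₜ 1)
        rw [Algebra.TensorProduct.comm_tmul]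
      rw [h5]
      exact h3.comp h4
    exact h1.comp h2
  · intro R _ f g h1 h2
    apply RingHom.ext
    intro z
    induction z using TensorProduct.induction_on with
    | zero => simp
    | tmul a m =>
      obtain ⟨m', rfl⟩ := htoE_surj m
      have e : (a ⊗ₜ[Γ(T.left, ⊤)] toE m' : Γ(T'.left, ⊤) ⊗[Γ(T.left, ⊤)] E) =
          incL a * (incR.comp toE) m' := by
        change _ = (a ⊗ₜ 1) * (1 ⊗ₜ toE m')
        rw [Algebra.TensorProduct.tmul_mul_tmul, mul_one, one_mul]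
      have e1 : f (incL a) = g (incL a) := congrArg (fun φ => φ a) h2
      have e2 : f ((incR.comp toE) m') = g ((incR.comp toE) m') := congrArg (fun φ => φ m') h1
      rw [e, map_mul, map_mul, e1, e2]
    | add x y hx hy => rw [map_add, map_add, hx, hy]
  · intro a₀
    have hm : ((v ≫ c).left.appLE ⊤ U₂ le_top).hom a₀ ∈
        RingHom.eqLocus ((act sq).left.appLE U₂ (q₂.left ⁻¹ᵁ U₁) l12).hom
          (q₂.left.appLE U₂ (q₂.left ⁻¹ᵁ U₁) lq).hom := by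
      change f₁ (algebraMap _ _ a₀) = f₂ (algebraMap _ _ a₀)
      rw [f₁.commutes, f₂.commutes]
    refine ⟨hm, ?_⟩
    change (1 : Γ(T'.left, ⊤)) ⊗ₜ[Γ(T.left, ⊤)] (toE ⟨_, hm⟩) = (c.left.appTop.hom a₀) ⊗ₜ 1
    have h1 : toE ⟨_, hm⟩ = algebraMap Γ(T.left, ⊤) E a₀ := Subtype.ext rfl
    rw [h1, Algebra.algebraMap_eq_smul_one, ← TensorProduct.smul_tmul, Algebra.smul_def, mul_one]
    rfl

end Groth.Agent.H3.IQA
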