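import Groth.Agent.Lib.Helper3.IQA.Orbit
import Mathlib

/-!
# Counting points in fibres of finite morphisms by geometric points (helper3)
-/

set_option autoImplicit false

universe u

open CategoryTheory CategoryTheory.Limits AlgebraicGeometry Opposite TopologicalSpace

namespace Groth.Agent.H3.IQA

/-- Over an algebraically closed field `k`, every prime of an integral `k`-algebra is the kernel
of a retraction onto `k`. -/
lemma exists_retraction_ker_eq {k : Type u} [Field k] [IsAlgClosed k] {B : Type u} [CommRing B]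
    (φ : k →+* B) (hφ : φ.IsIntegral) (q : Ideal B) [q.IsPrime] :
    ∃ σ : B →+* k, σ.comp φ = RingHom.id k ∧ RingHom.ker σ = q := by
  have hint : ((Ideal.Quotient.mk q).comp φ).IsIntegral :=
    RingHom.IsIntegral.trans φ (Ideal.Quotient.mk q) hφ
      (RingHom.isIntegral_of_surjective _ Ideal.Quotient.mk_surjective)
  have hbij := IsAlgClosed.ringHom_bijective_of_isIntegral _ hint
  let e : k ≃+* (B ⧸ q) := RingEquiv.ofBijective _ hbij
  refine ⟨(e.symm : (B ⧸ q) →+* k).comp (Ideal.Quotient.mk q), ?_, ?_⟩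
  · ext a
    change e.symm (Ideal.Quotient.mk q (φ a)) = a
    exact e.symm_apply_apply a
  · ext b
    rw [RingHom.mem_ker]
    change e.symm (Ideal.Quotient.mk q b) = 0 ↔ b ∈ q
    rw [map_eq_zero_iff _ e.symm.injective, Ideal.Quotient.eq_zero_iff_mem]

/-- A scheme integral over an algebraically closed field has a rational point through every
point. -/
theorem exists_section_of_isIntegralHom {k : Type u} [Field k] [IsAlgClosed k] {P : Scheme.{u}}
    (g : P ⟶ Spec (CommRingCat.of k)) [IsIntegralHom g] (z : P) :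
    ∃ s : Spec (CommRingCat.of k) ⟶ P, s ≫ g = 𝟙 _ ∧ ∀ t, s t = z := by
  have hP : IsAffine P := isAffine_of_isAffineHom g
  have hint : (toΓ g).hom.IsIntegral := by
    have h1 : (g.app ⊤).hom.IsIntegral := Scheme.Hom.isIntegral_app g ⊤ (isAffineOpen_top _)
    have h2 : ((Scheme.ΓSpecIso (CommRingCat.of k)).inv).hom.IsIntegral :=
      RingHom.isIntegral_of_surjective _
        (ConcreteCategory.bijective_of_isIso (Scheme.ΓSpecIso (CommRingCat.of k)).inv).2
    exact RingHom.IsIntegral.trans _ _ h2 h1
  let q : PrimeSpectrum Γ(P, ⊤) := P.isoSpec.hom z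
  obtain ⟨σ, hσ₁, hσ₂⟩ := exists_retraction_ker_eq (toΓ g).hom hint q.asIdeal
  refine ⟨Spec.map (CommRingCat.ofHom σ) ≫ P.isoSpec.inv, ?_, ?_⟩
  · apply toΓ_ext
    have h1 : P.isoSpec.inv ≫ g = Spec.map (toΓ g) := by
      rw [← Scheme.isoSpec_inv_naturality g, Scheme.isoSpec_Spec_inv, ← Spec.map_comp]
      rfl
    rw [Category.assoc, h1, ← Spec.map_comp]
    have h2 : toΓ g ≫ CommRingCat.ofHom σ = 𝟙 _ := by
      ext1
      exact hσ₁
    rw [h2, Spec.map_id]
  · intro t
    have h1 : Spec.map (CommRingCat.ofHom σ) t = q := by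
      apply PrimeSpectrum.ext
      change Ideal.comap σ t.asIdeal = q.asIdeal
      have ht : t.asIdeal = ⊥ := by
        have : t = default := Subsingleton.elim _ _
        rw [this]
        rfl
      rw [ht, ← hσ₂]
      rfl
    change P.isoSpec.inv (Spec.map (CommRingCat.ofHom σ) t) = z
    rw [h1]
    change (P.isoSpec.hom ≫ P.isoSpec.inv) z = z
    rw [Iso.hom_inv_id]
    rfl

/-- Geometric points lift through integral morphisms, with prescribed image point. -/
theorem exists_lift_geometric_point {k : Type u} [Field k] [IsAlgClosed k] {P B : Scheme.{u}}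
    (f : P ⟶ B) [IsIntegralHom f] (β : Spec (CommRingCat.of k) ⟶ B) (z : P)
    (hz : f z = β default) :
    ∃ α : Spec (CommRingCat.of k) ⟶ P, α ≫ f = β ∧ α default = z := by
  obtain ⟨z', hz'₁, hz'₂⟩ := Scheme.Pullback.exists_preimage_pullback z default hz
  obtain ⟨s, hs₁, hs₂⟩ := exists_section_of_isIntegralHom (pullback.snd f β) z'
  refine ⟨s ≫ pullback.fst f β, ?_, ?_⟩
  · rw [Category.assoc, pullback.condition, ← Category.assoc, hs₁, Category.id_comp]
  · change pullback.fst f β (s default) = z
    rw [hs₂, hz'₁]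

section count

variable {S : Scheme.{u}} {T T' V : Over S} {c : T' ⟶ T} {v : V ⟶ T'}

/-- The fibre of `T' ×_T V ⟶ V` over the image of a geometric point `β` of `V` has at most as
many points as there are geometric points of `T'` over the image of `β` in `T`. -/
theorem encard_fibre_snd_le [IsFinite c.left] {k : Type u} [Field k] [IsAlgClosed k]
    (β : Spec (CommRingCat.of k) ⟶ V.left) :
    ((pullback.snd c (v ≫ c)).left ⁻¹' {β default}).encard ≤
      {a : Spec (CommRingCat.of k) ⟶ T'.left | a ≫ c.left = β ≫ (v ≫ c).left}.encard := by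
  have := isFinite_snd (c := c) (v := v)
  let A : Set (Spec (CommRingCat.of k) ⟶ (pullback c (v ≫ c)).left) :=
    {α | α ≫ (pullback.snd c (v ≫ c)).left = β}
  have h1 : (pullback.snd c (v ≫ c)).left ⁻¹' {β default} ⊆ (fun α => α default) '' A := by
    intro z hz
    obtain ⟨α, hα₁, hα₂⟩ := exists_lift_geometric_point (pullback.snd c (v ≫ c)).left β z hz
    exact ⟨α, hα₁, hα₂⟩
  have h2 : Set.InjOn (fun α => α ≫ (pullback.fst c (v ≫ c)).left) A := by
    intro α₁ h₁ α₂ h₂ h
    have sqP := (IsPullback.of_hasPullback c (v ≫ c)).map (Over.forget S)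
    exact sqP.hom_ext h (h₁.trans h₂.symm)
  have h3 : (fun α => α ≫ (pullback.fst c (v ≫ c)).left) '' A ⊆
      {a | a ≫ c.left = β ≫ (v ≫ c).left} := by
    rintro _ ⟨α, hα, rfl⟩
    change (α ≫ (pullback.fst c (v ≫ c)).left) ≫ c.left = β ≫ (v ≫ c).left
    have e : (pullback.fst c (v ≫ c)).left ≫ c.left =
        (pullback.snd c (v ≫ c)).left ≫ (v ≫ c).left := by
      rw [← Over.comp_left, ← Over.comp_left, pullback.condition]
    have hα' : α ≫ (pullback.snd c (v ≫ c)).left = β := hα
    rw [Category.assoc, e, ← Category.assoc, hα']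
  calc ((pullback.snd c (v ≫ c)).left ⁻¹' {β default}).encard
      ≤ ((fun α => α default) '' A).encard := Set.encard_le_encard h1
    _ ≤ A.encard := Set.encard_image_le _ _
    _ = ((fun α => α ≫ (pullback.fst c (v ≫ c)).left) '' A).encard := (h2.encard_image).symm
    _ ≤ _ := Set.encard_le_encard h3

theorem encard_fibre_snd_le' [IsFinite c.left] {k : Type u} [Field k] [IsAlgClosed k]
    (β : Spec (CommRingCat.of k) ⟶ V.left) (x : V.left) (hx : β default = x) :
    ((pullback.snd c (v ≫ c)).left ⁻¹' {x}).encard ≤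
      {a : Spec (CommRingCat.of k) ⟶ T'.left | a ≫ c.left = β ≫ (v ≫ c).left}.encard := by
  subst hx
  exact encard_fibre_snd_le β

end count

/-- A nonempty set with at most `d` elements is the range of a family indexed by `Fin d`. -/
lemma exists_fin_enum {α : Type*} (s : Set α) (d : ℕ) (hne : s.Nonempty) (h : s.encard ≤ d) :
    ∃ f : Fin d → α, (∀ i, f i ∈ s) ∧ ∀ x ∈ s, ∃ i, f i = x := by
  have hfin : s.Finite := Set.finite_of_encard_le_coe h
  have hfo : Fintype s := hfin.fintype
  have hne' : Nonempty s := hne.to_subtype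
  have hcard : Fintype.card s ≤ Fintype.card (Fin d) := by
    rw [Fintype.card_fin]
    have h1 : s.encard = (Fintype.card s : ℕ∞) := by
      rw [Set.encard_eq_coe_toFinset_card, Set.toFinset_card]
    rw [h1] at h
    exact_mod_cast h
  obtain ⟨e⟩ := Function.Embedding.nonempty_of_card_le hcard
  have hsurj := Function.invFun_surjective e.injective
  refine ⟨fun i => (Function.invFun e i : s), fun i => (Function.invFun e i).2, ?_⟩
  intro x hx
  obtain ⟨i, hi⟩ := hsurj ⟨x, hx⟩
  exact ⟨i, congrArg Subtype.val hi⟩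

lemma comp_fromSpecResidueField_default {V : Scheme.{u}} (x : V) (k : Type u) [Field k]
    (φ : V.residueField x →+* k) :
    (Spec.map (CommRingCat.ofHom φ) ≫ V.fromSpecResidueField x) default = x :=
  Scheme.fromSpecResidueField_apply x _

/-- Every point of a scheme is the image of a geometric point. -/
lemma exists_geometric_point {V : Scheme.{u}} (x : V) :
    ∃ (k : Type u) (_ : Field k) (_ : IsAlgClosed k) (β : Spec (CommRingCat.of k) ⟶ V),
      β default = x :=
  ⟨AlgebraicClosure (V.residueField x), inferInstance, inferInstance, _,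
    comp_fromSpecResidueField_default x _ (algebraMap (V.residueField x)
      (AlgebraicClosure (V.residueField x)))⟩

section finite

open Desc Groth.Agent.H3.DescSh _root_.AlgSp Groth.Agent.H5.AlgSp

variable {S : Scheme.{u}} {T T' V : Over S} {c : T' ⟶ T} {v : V ⟶ T'} {F : Sp S}
  {π : F ⟶ (yon S).obj T} {u : (yon S).obj V ⟶ F}
  (sq : IsPullback u ((yon S).map v) π ((yon S).map c))

lemma mem_orbit_self (x : V.left) :
    x ∈ (act sq).left '' ((pullback.snd c (v ≫ c)).left ⁻¹' {x}) := by
  refine ⟨(unitSec c v).left x, ?_, ?_⟩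
  · change ((unitSec c v).left ≫ (pullback.snd c (v ≫ c)).left) x = x
    rw [← Over.comp_left, unitSec_snd]
    rfl
  · change ((unitSec c v).left ≫ (act sq).left) x = x
    rw [← Over.comp_left, unitSec_act]
    rfl

set_option backward.isDefEq.respectTransparency false in
set_option backward.isDefEq.respectTransparency.types false in
/-- **Descent along a finite flat surjective morphism whose geometric fibres have at most `d`
points: a descent datum such that any `d` points over a common point of the base lie in an affine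
open is effective.** -/
theorem effective_of_finite_of_bounded_fibres {X Y : Scheme.{u}} (p : X ⟶ Y) [Surjective p]
    [IsFinite p] [Flat p] (d : ℕ)
    (hfib : ∀ (k : Type u) [Field k] [IsAlgClosed k] (y : Spec (CommRingCat.of k) ⟶ Y),
      Set.encard {x : Spec (CommRingCat.of k) ⟶ X | x ≫ p = y} ≤ d)
    (D : SchDD p)
    (hV : ∀ (y : Y) (v : Fin d → ↑(D.obj.left)), (∀ i, p (D.obj.hom (v i)) = y) →
      ∃ U : D.obj.left.Opens, IsAffineOpen U ∧ ∀ i, v i ∈ U) :
    ∃ W : Over Y, Nonempty ((toDD p).obj W ≅ D) := by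
  apply effective_of_invariant_cover_affine p D
  intro v₀
  have sq := isPullback_kap ((SchDDFam.ofSchDD.{u} p).obj D) PUnit.unit
  have hfin : IsFinite (toBase (XO (fun _ : PUnit.{u + 1} => p) PUnit.unit)).left :=
    inferInstanceAs (IsFinite p)
  have hmem := mem_orbit_self sq (v₀ : (DO ((SchDDFam.ofSchDD.{u} p).obj D) PUnit.unit).left)
  -- a geometric point at `v₀`
  obtain ⟨k, _, _, β, hβ⟩ : ∃ (k : Type u) (_ : Field k) (_ : IsAlgClosed k)
      (β : Spec (CommRingCat.of k) ⟶ D.obj.left), β default = v₀ :=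
    exists_geometric_point v₀
  have hcount := encard_fibre_snd_le'
    (c := toBase (XO (fun _ : PUnit.{u + 1} => p) PUnit.unit))
    (v := dO ((SchDDFam.ofSchDD.{u} p).obj D) PUnit.unit) β v₀ hβ
  have hle := ((Set.encard_image_le (act sq).left _).trans hcount).trans
    (hfib k (β ≫ D.obj.hom ≫ p))
  obtain ⟨w, hw₁, hw₂⟩ := exists_fin_enum _ d ⟨_, hmem⟩ hle
  obtain ⟨U, hU, hsU⟩ := hV (p (D.obj.hom v₀)) w (fun i => orbit_over sq _ _ (hw₁ i))
  obtain ⟨O, hvO, hOU, hsat⟩ := exists_invariant_open_of_finite sq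
    (v₀ : (DO ((SchDDFam.ofSchDD.{u} p).obj D) PUnit.unit).left) U (by
      intro x hx
      obtain ⟨i, rfl⟩ := hw₂ x hx
      exact hsU i)
  exact ⟨O, U, hvO, isInvariant_of_sat D O hsat, hOU, hU⟩

end finite

end Groth.Agent.H3.IQA
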