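import Groth.Agent.Lib.Helper3.IQA.LocEff
import Groth.Agent.Lib.Helper1.FpqcDescent
import Groth.Agent.Lib.Helper5.AlgSp.FlatDescentMore
import Groth.Agent.S1402
import Mathlib

/-!
# Descent of étale separated quasi-compact schemes along fpqc morphisms (helper3)
-/

set_option autoImplicit false

universe u

open CategoryTheory CategoryTheory.Limits AlgebraicGeometry Opposite TopologicalSpace

namespace Groth.Agent.H3.IQA

open Desc

/-- The structure morphism of the canonical descent datum isomorphic to `D`. -/
lemma prop_fst_of_iso {X S : Scheme.{u}} (g : X ⟶ S) (D : SchDD g) (U : Over S)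
    (E : (toDD g).obj U ≅ D) (P : MorphismProperty Scheme.{u}) [P.RespectsIso]
    (hP : P D.obj.hom) : P (pullback.fst g U.hom) := by
  have hiso : IsIso E.hom.hom.left := by
    refine ⟨E.inv.hom.left, ?_, ?_⟩
    · exact congrArg (fun m => m.hom.left) E.hom_inv_id
    · exact congrArg (fun m => m.hom.left) E.inv_hom_id
  have hw : E.hom.hom.left ≫ D.obj.hom = pullback.fst g U.hom := Over.w E.hom.hom
  rw [← hw]
  exact (@MorphismProperty.cancel_left_of_respectsIso _ _ P _ _ _ _ E.hom.hom.left D.obj.hom
    hiso).2 hP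

/-- **Descent of étale, separated, quasi-compact schemes along fpqc morphisms.** -/
theorem exists_etale_sep_qc_of_fpqc {S' S : Scheme.{u}} (g : S' ⟶ S) [Flat g] [Surjective g]
    [QuasiCompact g] (D : SchDD g) [QuasiCompact D.obj.hom] [IsSeparated D.obj.hom]
    [Etale D.obj.hom] :
    ∃ U : Over S, QuasiCompact U.hom ∧ IsSeparated U.hom ∧ Etale U.hom ∧
      Nonempty ((toDD g).obj U ≅ D) := by
  have hlqf : LocallyQuasiFinite D.obj.hom :=
    Groth.Agent.H5.AlgSp.locallyQuasiFinite_of_unramified D.obj.hom
  have hind : MoreMor.IsIndQuasiAffineHom D.obj.hom := Groth.Agent.S1402.result D.obj.hom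
  obtain ⟨U, ⟨E⟩⟩ := effective_of_isIndQuasiAffine_fpqc g D hind
  have hQ : (@Surjective ⊓ @Flat ⊓ @QuasiCompact : MorphismProperty Scheme.{u}) g :=
    ⟨⟨inferInstance, inferInstance⟩, inferInstance⟩
  have sq := IsPullback.of_hasPullback g U.hom
  refine ⟨U, ?_, ?_, ?_, ⟨E⟩⟩
  · have := Groth.Agent.H1.descendsAlong_quasiCompact.{u}
    exact MorphismProperty.of_isPullback_of_descendsAlong (P := @QuasiCompact) sq hQ
      (prop_fst_of_iso g D U E @QuasiCompact inferInstance)
  · have := Groth.Agent.H1.descendsAlong_isSeparated.{u}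
    exact MorphismProperty.of_isPullback_of_descendsAlong (P := @IsSeparated) sq hQ
      (prop_fst_of_iso g D U E @IsSeparated inferInstance)
  · exact MorphismProperty.of_isPullback_of_descendsAlong (P := @Etale) sq hQ
      (prop_fst_of_iso g D U E @Etale inferInstance)

end Groth.Agent.H3.IQA
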