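import Groth.Agent.Lib.Helper1.IndQuasiAffine
import Mathlib

/-!
# Ind-quasi-affine morphisms as a morphism property (helper3)

Stability under base change (from helper1's library) and Zariski-locality on the target.
-/

set_option autoImplicit false

universe u

open CategoryTheory CategoryTheory.Limits AlgebraicGeometry Opposite TopologicalSpace

namespace Groth.Agent.H3.IQA

open Groth.Agent.H1

/-- ind-quasi-affine morphisms, as a morphism property. -/
def indQuasiAffineHoms : MorphismProperty Scheme.{u} := fun _ _ f => MoreMor.IsIndQuasiAffineHom f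

instance : indQuasiAffineHoms.{u}.RespectsIso := by
  apply MorphismProperty.RespectsIso.mk
  · intro X Y Z e f hf
    have sq : IsPullback e.hom (e.hom ≫ f) f (𝟙 Z) := IsPullback.of_horiz_isIso ⟨by simp⟩
    exact isIndQuasiAffineHom_of_isPullback f (e.hom ≫ f) e.hom (𝟙 Z) sq hf
  · intro X Y Z e f hf
    have sq : IsPullback (𝟙 X) (f ≫ e.hom) f e.inv := IsPullback.of_horiz_isIso ⟨by simp⟩
    exact isIndQuasiAffineHom_of_isPullback f (f ≫ e.hom) (𝟙 X) e.inv sq hf

instance : indQuasiAffineHoms.{u}.IsStableUnderBaseChange := by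
  apply MorphismProperty.IsStableUnderBaseChange.mk'
  intro X Y S f g _ hg
  exact isIndQuasiAffineHom_of_isPullback g (pullback.fst f g) (pullback.snd f g) f
    (IsPullback.of_hasPullback f g).flip hg

instance isZariskiLocalAtTarget_indQuasiAffineHoms :
    IsZariskiLocalAtTarget indQuasiAffineHoms.{u} := by
  apply IsZariskiLocalAtTarget.mk'
  · intro X Y f U hf
    exact isIndQuasiAffineHom_of_isPullback f (f ∣_ U) (f ⁻¹ᵁ U).ι U.ι
      (isPullback_morphismRestrict f U).flip hf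
  · intro X Y f ι U hU H
    change MoreMor.IsIndQuasiAffineHom f
    rw [isIndQuasiAffineHom_iff]
    intro W j _ _ V₀ hV₀ hr
    have hr' : Set.range (j ≫ f) ⊆ Set.range V₀.ι := by
      rw [Scheme.Opens.range_ι]; exact hr
    let φ : W ⟶ (V₀ : Scheme.{u}) := IsOpenImmersion.lift V₀.ι (j ≫ f) hr'
    have hφ : φ ≫ V₀.ι = j ≫ f := IsOpenImmersion.lift_fac _ _ _
    have hφ' : ∀ w, V₀.ι (φ w) = f (j w) := fun w ↦ by
      rw [← Scheme.Hom.comp_apply, hφ, Scheme.Hom.comp_apply]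
    have := isQuasiAffine_of_isAffineOpen hV₀
    refine isQuasiAffine_of_hom φ fun x ↦ ?_
    have hx : f (j x) ∈ (⨆ i, U i : Y.Opens) := by rw [hU]; trivial
    obtain ⟨i, hi⟩ := TopologicalSpace.Opens.mem_iSup.1 hx
    refine ⟨V₀.ι ⁻¹ᵁ (U i), ?_, fun r hra hrO ↦ ?_⟩
    · change V₀.ι (φ x) ∈ U i
      rw [hφ']; exact hi
    · have hcW' := compactSpace_basicOpen (φ.appTop r)
      have hHi : MoreMor.IsIndQuasiAffineHom (f ∣_ U i) := H i
      rw [isIndQuasiAffineHom_iff] at hHi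
      -- the image of `W'` in `Y`
      have hmem : ∀ w : (W.basicOpen (φ.appTop r) : Scheme.{u}),
          f (j ((W.basicOpen (φ.appTop r)).ι w)) ∈ V₀.ι ''ᵁ (V₀ : Scheme.{u}).basicOpen r := by
        intro w
        exact ⟨φ ((W.basicOpen (φ.appTop r)).ι w), mem_basicOpen_appTop φ r w, hφ' _⟩
      have hV₁U : V₀.ι ''ᵁ (V₀ : Scheme.{u}).basicOpen r ≤ U i := by
        rintro _ ⟨y, hy, rfl⟩
        exact hrO hy
      have hr'' : Set.range ((W.basicOpen (φ.appTop r)).ι ≫ j) ⊆ Set.range (f ⁻¹ᵁ U i).ι := by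
        rw [Scheme.Opens.range_ι]
        rintro _ ⟨w, rfl⟩
        exact hV₁U (hmem w)
      let j'' : (W.basicOpen (φ.appTop r) : Scheme.{u}) ⟶ (f ⁻¹ᵁ U i : Scheme.{u}) :=
        IsOpenImmersion.lift (f ⁻¹ᵁ U i).ι ((W.basicOpen (φ.appTop r)).ι ≫ j) hr''
      have hj'' : j'' ≫ (f ⁻¹ᵁ U i).ι = (W.basicOpen (φ.appTop r)).ι ≫ j :=
        IsOpenImmersion.lift_fac _ _ _
      have : IsOpenImmersion j'' := by
        have : IsOpenImmersion (j'' ≫ (f ⁻¹ᵁ U i).ι) := by rw [hj'']; infer_instance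
        exact IsOpenImmersion.of_comp j'' (f ⁻¹ᵁ U i).ι
      have hV₁ : IsAffineOpen (V₀.ι ''ᵁ (V₀ : Scheme.{u}).basicOpen r) :=
        hra.image_of_isOpenImmersion V₀.ι
      refine hHi _ j'' ((U i).ι ⁻¹ᵁ (V₀.ι ''ᵁ (V₀ : Scheme.{u}).basicOpen r))
        (hV₁.preimage_of_isOpenImmersion (U i).ι (by
          rw [Scheme.Opens.opensRange_ι]; exact hV₁U)) ?_
      rintro _ ⟨w, rfl⟩
      change (U i).ι ((j'' ≫ f ∣_ U i) w) ∈ V₀.ι ''ᵁ (V₀ : Scheme.{u}).basicOpen r
      have h1 : (U i).ι ((j'' ≫ f ∣_ U i) w) = f (j ((W.basicOpen (φ.appTop r)).ι w)) := by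
        have h2 : (j'' ≫ f ∣_ U i) ≫ (U i).ι = ((W.basicOpen (φ.appTop r)).ι ≫ j) ≫ f := by
          rw [Category.assoc, morphismRestrict_ι, ← Category.assoc, hj'']
        exact congr($h2 w)
      rw [h1]
      exact hmem w

end Groth.Agent.H3.IQA
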