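import Mathlib

/-!
# Morphisms to affine schemes in terms of ring homomorphisms (helper3)
-/

set_option autoImplicit false

universe u

open CategoryTheory CategoryTheory.Limits AlgebraicGeometry Opposite TopologicalSpace

namespace Groth.Agent.H3.IQA

/-- The ring homomorphism `R ⟶ Γ(P, ⊤)` attached to a morphism `P ⟶ Spec R`. -/
noncomputable def toΓ {P : Scheme.{u}} {R : CommRingCat.{u}} (f : P ⟶ Spec R) : R ⟶ Γ(P, ⊤) :=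
  (Scheme.ΓSpecIso R).inv ≫ f.appTop

lemma toΓ_ext {P : Scheme.{u}} {R : CommRingCat.{u}} {f g : P ⟶ Spec R} (h : toΓ f = toΓ g) :
    f = g := by
  apply ext_of_isAffine
  exact (cancel_epi (Scheme.ΓSpecIso R).inv).1 h

lemma toΓ_comp_SpecMap {P : Scheme.{u}} {R R' : CommRingCat.{u}} (f : P ⟶ Spec R) (ψ : R' ⟶ R) :
    toΓ (f ≫ Spec.map ψ) = ψ ≫ toΓ f := by
  unfold toΓ
  rw [Scheme.Hom.comp_appTop, ← Category.assoc, ← Scheme.ΓSpecIso_inv_naturality, Category.assoc]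

lemma toΓ_comp {P P' : Scheme.{u}} {R : CommRingCat.{u}} (g : P' ⟶ P) (f : P ⟶ Spec R) :
    toΓ (g ≫ f) = toΓ f ≫ g.appTop := by
  unfold toΓ
  rw [Scheme.Hom.comp_appTop, Category.assoc]

lemma toΓ_toSpecΓ (P : Scheme.{u}) : toΓ P.toSpecΓ = 𝟙 _ := by
  unfold toΓ
  rw [Scheme.toSpecΓ_appTop, Iso.inv_hom_id]

lemma toΓ_opens_toSpecΓ {X : Scheme.{u}} (U : X.Opens) : toΓ U.toSpecΓ = U.topIso.inv := by
  unfold toΓ
  rw [Scheme.Opens.toSpecΓ_appTop, Iso.inv_hom_id_assoc]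

lemma appLE_lift {P X : Scheme.{u}} (U : X.Opens) (l : P ⟶ U.toScheme) (y : P ⟶ X)
    (hy : y = l ≫ U.ι) (hle : (⊤ : P.Opens) ≤ y ⁻¹ᵁ U) :
    y.appLE U ⊤ hle = U.topIso.inv ≫ l.appTop := by
  subst hy
  have h1 : (⊤ : U.toScheme.Opens) ≤ U.ι ⁻¹ᵁ U := by
    intro x _; exact x.2
  have h2 : (⊤ : P.Opens) ≤ l ⁻¹ᵁ ⊤ := le_top
  rw [← Scheme.Hom.appLE_comp_appLE l U.ι U ⊤ ⊤ h1 h2]
  congr 1
  · rw [Scheme.Opens.ι_appLE]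
    rfl
  · exact l.appLE_eq_app (U := ⊤)

/-- The ring homomorphism attached to `P ⟶ U ⟶ Spec Γ(X, U)`. -/
lemma toΓ_lift_toSpecΓ {P X : Scheme.{u}} (U : X.Opens) (x : P ⟶ X)
    (hx : (⊤ : P.Opens) ≤ x ⁻¹ᵁ U) (hr : Set.range x ⊆ Set.range U.ι) :
    toΓ (IsOpenImmersion.lift U.ι x hr ≫ U.toSpecΓ) = x.appLE U ⊤ hx := by
  rw [toΓ_comp, toΓ_opens_toSpecΓ]
  exact (appLE_lift U _ x (IsOpenImmersion.lift_fac _ _ _).symm hx).symm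

lemma toΓ_lift_quot {P X : Scheme.{u}} (U : X.Opens) (x : P ⟶ X)
    (hx : (⊤ : P.Opens) ≤ x ⁻¹ᵁ U) (hr : Set.range x ⊆ Set.range U.ι) {R : CommRingCat.{u}}
    (j : R ⟶ Γ(X, U)) :
    toΓ (IsOpenImmersion.lift U.ι x hr ≫ U.toSpecΓ ≫ Spec.map j) = j ≫ x.appLE U ⊤ hx := by
  rw [← Category.assoc, toΓ_comp_SpecMap, toΓ_lift_toSpecΓ U x hx hr]

lemma appLE_comp_appTop {X Y Z : Scheme.{u}} (f : X ⟶ Y) (g : Y ⟶ Z) (V : Y.Opens)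
    (e₂ : (⊤ : X.Opens) ≤ f ⁻¹ᵁ V) (a : Γ(Z, ⊤)) :
    (f.appLE V ⊤ e₂).hom ((g.appLE ⊤ V le_top).hom a) = (f ≫ g).appTop.hom a := by
  have h1 := congrArg (fun φ => φ.hom a) (Scheme.Hom.appLE_comp_appLE f g ⊤ V ⊤ le_top e₂)
  have h2 : (f ≫ g).appLE ⊤ ⊤ le_top = (f ≫ g).appTop := (f ≫ g).appLE_eq_app (U := ⊤)
  exact h1.trans (congrArg (fun φ => φ.hom a) h2)

/-- Morphisms to an affine scheme can be prescribed on global sections. -/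
lemma exists_hom_appTop_eq {P Y : Scheme.{u}} [IsAffine Y] (θ : Γ(Y, ⊤) ⟶ Γ(P, ⊤)) :
    ∃ t : P ⟶ Y, t.appTop = θ := by
  refine ⟨P.toSpecΓ ≫ Spec.map θ ≫ Y.isoSpec.inv, ?_⟩
  have h1 : Y.isoSpec.inv.appTop = (Scheme.ΓSpecIso Γ(Y, ⊤)).inv := by
    have h2 : Y.isoSpec.inv.appTop ≫ Y.toSpecΓ.appTop = 𝟙 _ := by
      rw [← Scheme.Hom.comp_appTop, Scheme.toSpecΓ_isoSpec_inv]
      rfl
    rw [Scheme.toSpecΓ_appTop] at h2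
    exact (Iso.comp_hom_eq_id _).1 h2
  rw [Scheme.Hom.comp_appTop, Scheme.Hom.comp_appTop, h1, Scheme.toSpecΓ_appTop, Category.assoc,
    ← Scheme.ΓSpecIso_inv_naturality_assoc, Iso.inv_hom_id, Category.comp_id]

end Groth.Agent.H3.IQA
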