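import Groth.Agent.Lib.Helper1.IndQuasiAffine
import Mathlib

/-!
# A separation lemma in the spectrum of the ring of partially invariant functions (helper3)
-/

set_option autoImplicit false

universe u

open CategoryTheory CategoryTheory.Limits AlgebraicGeometry Opposite TopologicalSpace

namespace Groth.Agent.H3.IQA

theorem exists_compact_open_sep {Y₀ : Scheme.{u}} {M N : CommRingCat.{u}} (φ₀ : Y₀ ⟶ Spec N)
    [IsOpenImmersion φ₀] (ρ : M ⟶ N) (hρ : ρ.hom.Flat) (A B : Y₀.Opens)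
    (hA : IsCompact (A : Set Y₀))
    (hD : ∀ (n : Spec N) (x₀ : Y₀), x₀ ∈ A → Spec.map ρ n = Spec.map ρ (φ₀ x₀) →
      ∃ x'' ∈ B, φ₀ x'' = n) :
    ∃ N' : (Spec M).Opens, IsCompact (N' : Set (Spec M)) ∧
      (∀ x ∈ A, Spec.map ρ (φ₀ x) ∈ N') ∧
      (∀ x : Y₀, Spec.map ρ (φ₀ x) ∈ N' → x ∈ B) := by
  let K₀ : Set (Spec M) := (fun x => Spec.map ρ (φ₀ x)) '' (A : Set Y₀)
  have hK₀ : IsCompact K₀ := hA.image ((Spec.map ρ).continuous.comp φ₀.continuous)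
  have hgenρ : GeneralizingMap (Spec.map ρ) := RingHom.Flat.generalizingMap_comap hρ
  have hgenφ : GeneralizingMap φ₀ := φ₀.isOpenEmbedding.generalizingMap
  have hK₀gen : StableUnderGeneralization K₀ := by
    rintro p p' hpp' ⟨x, hx, rfl⟩
    obtain ⟨n', hn', rfl⟩ := hgenρ hpp'
    obtain ⟨x', hx', rfl⟩ := hgenφ hn'
    exact ⟨x', A.2.stableUnderGeneralization hx' hx, rfl⟩
  have hZ : IsClosed ((φ₀ '' (B : Set Y₀))ᶜ : Set (Spec N)) :=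
    (φ₀.isOpenEmbedding.isOpenMap _ B.2).isClosed_compl
  obtain ⟨I, hI⟩ := (PrimeSpectrum.isClosed_iff_zeroLocus_ideal _).1 hZ
  let Ω : (Spec M).Opens := ⟨(PrimeSpectrum.zeroLocus (I.comap ρ.hom : Set M))ᶜ,
    (PrimeSpectrum.isClosed_zeroLocus _).isOpen_compl⟩
  have hKΩ : K₀ ⊆ Ω := by
    intro p hp hpz
    have hpz' : ((I.comap ρ.hom : Ideal M) : Set M) ⊆ (p.asIdeal : Set M) :=
      (PrimeSpectrum.mem_zeroLocus (R := M) p _).1 hpz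
    obtain ⟨Q, hQI, hQp, hQle⟩ := Ideal.exists_ideal_comap_le_prime p.asIdeal I hpz'
    let nQ : Spec N := ⟨Q, hQp⟩
    have h1 : Spec.map ρ nQ ⤳ p := (PrimeSpectrum.le_iff_specializes _ _).1 hQle
    obtain ⟨x', hx', hx'eq⟩ := hK₀gen h1 hp
    obtain ⟨x'', hx''B, hx''⟩ := hD nQ x' hx' hx'eq.symm
    have h2 : nQ ∈ (φ₀ '' (B : Set Y₀))ᶜ := by
      rw [hI]
      exact (PrimeSpectrum.mem_zeroLocus (R := N) nQ _).2 hQI
    exact h2 ⟨x'', hx''B, hx''⟩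
  obtain ⟨N', hN'c, hKN', hN'Ω⟩ := Groth.Agent.H1.exists_compact_opens_between hK₀ Ω hKΩ
  refine ⟨N', hN'c, fun x hx => hKN' ⟨x, hx, rfl⟩, fun x hx => ?_⟩
  have h1 : Spec.map ρ (φ₀ x) ∉ PrimeSpectrum.zeroLocus (I.comap ρ.hom : Set M) := hN'Ω hx
  have h2 : φ₀ x ∉ (φ₀ '' (B : Set Y₀))ᶜ := by
    rw [hI]
    intro h3
    apply h1
    have h3' : ((I : Ideal N) : Set N) ⊆ ((φ₀ x).asIdeal : Set N) :=
      (PrimeSpectrum.mem_zeroLocus (R := N) (φ₀ x) _).1 h3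
    refine (PrimeSpectrum.mem_zeroLocus (R := M) (Spec.map ρ (φ₀ x)) _).2 ?_
    intro m hm
    exact h3' hm
  rw [Set.notMem_compl_iff] at h2
  obtain ⟨y, hy, hyx⟩ := h2
  rwa [φ₀.isOpenEmbedding.injective hyx] at hy

end Groth.Agent.H3.IQA
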