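import Groth.Agent.Lib.Helper3.IQA.OpenImm
import Groth.Agent.Lib.Helper3.IQA.SpecHom
import Groth.Agent.Lib.Helper3.IQA.Top
import Mathlib

/-!
# Invariant quasi-compact open neighbourhoods (helper3)
-/

set_option autoImplicit false

universe u

open CategoryTheory CategoryTheory.Limits AlgebraicGeometry Opposite TopologicalSpace

namespace Groth.Agent.H3.IQA

open _root_.AlgSp Groth.Agent.H5.AlgSp

variable {S : Scheme.{u}} {T T' V : Over S} {c : T' ⟶ T} {v : V ⟶ T'} {F : Sp S}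
  {π : F ⟶ (yon S).obj T} {u : (yon S).obj V ⟶ F}
  (sq : IsPullback u ((yon S).map v) π ((yon S).map c))

/-- Invariant functions take the same values at equivalent points. -/
lemma invRing_apply_eq (U₁ U₂ : V.left.Opens) (h12 : U₁ ≤ U₂) (s12 : Sat u U₁ U₂)
    {Z : Over S} (x₁ x₂ : Z ⟶ V) (h : (yon S).map x₁ ≫ u = (yon S).map x₂ ≫ u)
    (hr : Set.range x₁.left ⊆ (U₁ : Set V.left))
    (hx₁ : (⊤ : Z.left.Opens) ≤ x₁.left ⁻¹ᵁ U₂) (hx₂ : (⊤ : Z.left.Opens) ≤ x₂.left ⁻¹ᵁ U₂)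
    (m : invRing sq U₁ U₂ h12 s12) :
    (x₁.left.appLE U₂ ⊤ hx₁).hom m.1 = (x₂.left.appLE U₂ ⊤ hx₂).hom m.1 := by
  have hp₁ : (pairLift sq x₁ x₂ h).left ≫ (pullback.snd c (v ≫ c)).left = x₁.left := by
    rw [← Over.comp_left, pairLift_snd]
  have hp₂ : (pairLift sq x₁ x₂ h).left ≫ (act sq).left = x₂.left := by
    rw [← Over.comp_left, pairLift_act]
  have hpW : (⊤ : Z.left.Opens) ≤
      (pairLift sq x₁ x₂ h).left ⁻¹ᵁ ((pullback.snd c (v ≫ c)).left ⁻¹ᵁ U₁) := by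
    intro z _
    change ((pairLift sq x₁ x₂ h).left ≫ (pullback.snd c (v ≫ c)).left) z ∈ U₁
    rw [hp₁]; exact hr ⟨z, rfl⟩
  have hm : ((act sq).left.appLE U₂ ((pullback.snd c (v ≫ c)).left ⁻¹ᵁ U₁)
      (s12.snd_le_act sq)).hom m.1 =
    ((pullback.snd c (v ≫ c)).left.appLE U₂ ((pullback.snd c (v ≫ c)).left ⁻¹ᵁ U₁)
      (preimage_le _ h12)).hom m.1 := m.2
  have e1 := appLE_comp_eq (pairLift sq x₁ x₂ h).left (act sq).left x₂.left hp₂ U₂ _ ⊤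
    (s12.snd_le_act sq) hpW hx₂ m.1
  have e2 := appLE_comp_eq (pairLift sq x₁ x₂ h).left (pullback.snd c (v ≫ c)).left x₁.left hp₁
    U₂ _ ⊤ (preimage_le _ h12) hpW hx₁ m.1
  rw [← e1, ← e2, hm]

/-- **Translation.**  A point `pr₁` of `Spec N` lying over the image of a point `y` of `U_a` in
the partial quotient `Spec M₀` is the image of a point `y''` of `U_b`. -/
theorem exists_translate [IsAffine T.left] [IsAffine T'.left]
    (Ua Ub U₁ U₂ : V.left.Opens) (ha1 : Ua ≤ U₁) (hb2 : Ub ≤ U₂) (h12 : U₁ ≤ U₂)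
    (sab : Sat u Ua Ub) (s12 : Sat u U₁ U₂)
    {N : Type u} [CommRing N] (ρ : invRing sq U₁ U₂ h12 s12 →+* N)
    (α : Γ(T'.left, ⊤) →+* N) (μ : N →+* Γ(V.left, U₂))
    (p1 : ∀ m, μ (ρ m) = m.1) (p2 : ∀ a, μ (α a) = (v.left.appLE ⊤ U₂ le_top).hom a)
    (p8 : ∀ (R : Type u) [CommRing R] (f g : N →+* R), f.comp ρ = g.comp ρ →
      f.comp α = g.comp α → f = g)
    (p9 : ∀ a₀ : Γ(T.left, ⊤), ∃ hm, ρ ⟨((v ≫ c).left.appLE ⊤ U₂ le_top).hom a₀, hm⟩ =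
      α (c.left.appTop.hom a₀))
    {P : Scheme.{u}} (pr₁ : P ⟶ Spec (CommRingCat.of N)) (y : P ⟶ V.left)
    (hy : Set.range y ⊆ (Ua : Set V.left)) (hy₂ : Set.range y ⊆ Set.range U₂.ι)
    (hcond : pr₁ ≫ Spec.map (CommRingCat.ofHom ρ) =
      IsOpenImmersion.lift U₂.ι y hy₂ ≫ U₂.toSpecΓ ≫ Spec.map (CommRingCat.ofHom μ) ≫
        Spec.map (CommRingCat.ofHom ρ)) :
    ∃ (y'' : P ⟶ V.left) (hy'' : Set.range y'' ⊆ Set.range U₂.ι),
      Set.range y'' ⊆ (Ub : Set V.left) ∧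
      IsOpenImmersion.lift U₂.ι y'' hy'' ≫ U₂.toSpecΓ ≫ Spec.map (CommRingCat.ofHom μ) = pr₁ := by
  have hyU₂ : (⊤ : P.Opens) ≤ y ⁻¹ᵁ U₂ := fun z _ => h12 (ha1 (hy ⟨z, rfl⟩))
  set θ₂ : CommRingCat.of N ⟶ Γ(P, ⊤) := toΓ pr₁ with hθ₂
  -- Fact A
  have factA : ∀ m : invRing sq U₁ U₂ h12 s12,
      θ₂.hom (ρ m) = (y.appLE U₂ ⊤ hyU₂).hom m.1 := by
    intro m
    have h1 := congrArg toΓ hcond
    rw [toΓ_comp_SpecMap, ← Spec.map_comp, toΓ_lift_quot U₂ y hyU₂ hy₂] at h1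
    have h2 := congrArg (fun φ => φ.hom m) h1
    change θ₂.hom (ρ m) = (y.appLE U₂ ⊤ hyU₂).hom (μ (ρ m)) at h2
    rw [h2, p1]
  -- the point of `T'`
  obtain ⟨t, ht⟩ := exists_hom_appTop_eq (P := P) (Y := T'.left) (CommRingCat.ofHom α ≫ θ₂)
  have factB : t ≫ c.left = y ≫ (v ≫ c).left := by
    apply ext_of_isAffine
    rw [Scheme.Hom.comp_appTop, ht]
    ext a₀
    obtain ⟨hm, e⟩ := p9 a₀
    change θ₂.hom (α (c.left.appTop.hom a₀)) = (y ≫ (v ≫ c).left).appTop.hom a₀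
    rw [← e, factA]
    exact appLE_comp_appTop y (v ≫ c).left U₂ hyU₂ a₀
  -- the structure over `S`
  let Z : Over S := Over.mk (y ≫ V.hom)
  let y' : Z ⟶ V := Over.homMk y rfl
  have hw : t ≫ T'.hom = y ≫ V.hom := by
    rw [← Over.w c, ← Category.assoc, factB, Category.assoc, Over.w (v ≫ c)]
  let t' : Z ⟶ T' := Over.homMk t hw
  have hlift : t' ≫ c = y' ≫ v ≫ c := Over.OverMorphism.ext factB
  let w : Z ⟶ pullback c (v ≫ c) := pullback.lift t' y' hlift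
  let y'' : Z ⟶ V := w ≫ act sq
  have hw₁ : w ≫ pullback.fst c (v ≫ c) = t' := pullback.lift_fst _ _ _
  have hw₂ : w ≫ pullback.snd c (v ≫ c) = y' := pullback.lift_snd _ _ _
  have heq : (yon S).map y' ≫ u = (yon S).map y'' ≫ u := by
    rw [← hw₂, Functor.map_comp, Functor.map_comp, Category.assoc, Category.assoc, act_u]
  have hry' : Set.range y'.left ⊆ (Ua : Set V.left) := hy
  have hry'' : Set.range y''.left ⊆ (Ub : Set V.left) := sab y' y'' heq hry'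
  have hy''U₂ : (⊤ : P.Opens) ≤ y''.left ⁻¹ᵁ U₂ := fun z _ => hb2 (hry'' ⟨z, rfl⟩)
  have hy''₂ : Set.range y''.left ⊆ Set.range U₂.ι := by
    rw [Scheme.Opens.range_ι]; exact fun _ hz => hb2 (hry'' hz)
  refine ⟨y''.left, hy''₂, hry'', ?_⟩
  apply toΓ_ext
  rw [toΓ_lift_quot U₂ y''.left hy''U₂ hy''₂]
  have key := p8 Γ(P, ⊤) ((y''.left.appLE U₂ ⊤ hy''U₂).hom.comp μ) θ₂.hom ?_ ?_
  · ext n
    exact congrArg (fun φ => φ n) key
  · -- the `M₀`-component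
    ext m
    change (y''.left.appLE U₂ ⊤ hy''U₂).hom (μ (ρ m)) = θ₂.hom (ρ m)
    rw [p1, factA]
    exact (invRing_apply_eq sq U₁ U₂ h12 s12 y' y'' heq (hry'.trans ha1) hyU₂ hy''U₂ m).symm
  · -- the `T'`-component
    ext a
    change (y''.left.appLE U₂ ⊤ hy''U₂).hom (μ (α a)) = θ₂.hom (α a)
    rw [p2, appLE_comp_appTop]
    have h1 : y''.left ≫ v.left = t := by
      rw [← Over.comp_left]
      change ((w ≫ act sq) ≫ v).left = t
      rw [Category.assoc, act_v, hw₁]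
      rfl
    rw [h1, ht]
    rfl

/-- The map to the partial quotient is invariant. -/
lemma lift_quot_eq (U₁ U₂ : V.left.Opens) (h12 : U₁ ≤ U₂) (s12 : Sat u U₁ U₂)
    {N : Type u} [CommRing N] (ρ : invRing sq U₁ U₂ h12 s12 →+* N) (μ : N →+* Γ(V.left, U₂))
    (p1 : ∀ m, μ (ρ m) = m.1)
    {Z : Over S} (x₁ x₂ : Z ⟶ V) (h : (yon S).map x₁ ≫ u = (yon S).map x₂ ≫ u)
    (hr : Set.range x₁.left ⊆ (U₁ : Set V.left))
    (hr₁ : Set.range x₁.left ⊆ Set.range U₂.ι) (hr₂ : Set.range x₂.left ⊆ Set.range U₂.ι) :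
    IsOpenImmersion.lift U₂.ι x₁.left hr₁ ≫ U₂.toSpecΓ ≫ Spec.map (CommRingCat.ofHom μ) ≫
        Spec.map (CommRingCat.ofHom ρ) =
      IsOpenImmersion.lift U₂.ι x₂.left hr₂ ≫ U₂.toSpecΓ ≫ Spec.map (CommRingCat.ofHom μ) ≫
        Spec.map (CommRingCat.ofHom ρ) := by
  have hx₁ : (⊤ : Z.left.Opens) ≤ x₁.left ⁻¹ᵁ U₂ := fun z _ => by
    have := hr₁ ⟨z, rfl⟩
    rwa [Scheme.Opens.range_ι] at this
  have hx₂ : (⊤ : Z.left.Opens) ≤ x₂.left ⁻¹ᵁ U₂ := fun z _ => by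
    have := hr₂ ⟨z, rfl⟩
    rwa [Scheme.Opens.range_ι] at this
  apply toΓ_ext
  rw [← Spec.map_comp, toΓ_lift_quot U₂ x₁.left hx₁ hr₁, toΓ_lift_quot U₂ x₂.left hx₂ hr₂]
  ext m
  change (x₁.left.appLE U₂ ⊤ hx₁).hom (μ (ρ m)) = (x₂.left.appLE U₂ ⊤ hx₂).hom (μ (ρ m))
  rw [p1]
  exact invRing_apply_eq sq U₁ U₂ h12 s12 x₁ x₂ h hr hx₁ hx₂ m

include sq in
/-- **Invariant quasi-compact open neighbourhoods.**  If `V` is ind-quasi-affine, then every point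
of `V` has a quasi-compact open neighbourhood which is invariant under the descent datum. -/
theorem exists_invariant_open [IsAffine T.left] [IsAffine T'.left] [Flat c.left]
    (hV : MoreMor.IsIndQuasiAffine V.left) (e : V.left) :
    ∃ O : V.left.Opens, IsCompact (O : Set V.left) ∧ e ∈ O ∧ Sat u O O := by
  obtain ⟨Ua, hUa, heUa⟩ : ∃ Ua : V.left.Opens, IsAffineOpen Ua ∧ e ∈ Ua := by
    obtain ⟨_, ⟨Ua, hUa, rfl⟩, heUa, -⟩ := V.left.isBasis_affineOpens.exists_subset_of_mem_open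
      (Set.mem_univ e) isOpen_univ
    exact ⟨Ua, hUa, heUa⟩
  have hca : IsCompact (Ua : Set V.left) := hUa.isCompact
  obtain ⟨Ub, hcb, hab, sab⟩ := exists_sat sq Ua hca
  obtain ⟨U₀, hc₀, hb0, sb0⟩ := exists_sat sq Ub hcb
  obtain ⟨U₁, hc₁, h01, s01⟩ := exists_sat sq U₀ hc₀
  obtain ⟨U₂, hc₂, h12, s12⟩ := exists_sat sq U₁ hc₁
  obtain ⟨U₃, hc₃, h23, s23⟩ := exists_sat sq U₂ hc₂
  have hqa₃ : U₃.toScheme.IsQuasiAffine := hV U₃ hc₃
  obtain ⟨N, _, ρ, α, μ, p1, p2, p7, p8, p9, hoi⟩ :=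
    exists_partial_quotient sq U₀ U₁ U₂ U₃ h01 h12 h23 hc₁ hc₂ hc₃ s01 s12 s23
  have h02 : U₀ ≤ U₂ := h01.trans h12
  have ha0 : Ua ≤ U₀ := hab.trans hb0
  set φ₀ : U₀.toScheme ⟶ Spec (CommRingCat.of N) :=
    V.left.homOfLE h02 ≫ U₂.toSpecΓ ≫ Spec.map (CommRingCat.ofHom μ) with hφ₀
  have hoi' : IsOpenImmersion φ₀ := hoi
  let A : U₀.toScheme.Opens := U₀.ι ⁻¹ᵁ Ua
  let B : U₀.toScheme.Opens := U₀.ι ⁻¹ᵁ Ub
  have hA : IsCompact (A : Set U₀.toScheme) := by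
    apply U₀.ι.isOpenEmbedding.isInducing.isCompact_preimage' hca
    rw [Scheme.Opens.range_ι]
    exact ha0
  -- the translation property
  have hD : ∀ (n : Spec (CommRingCat.of N)) (x₀ : U₀.toScheme), x₀ ∈ A →
      Spec.map (CommRingCat.ofHom ρ) n = Spec.map (CommRingCat.ofHom ρ) (φ₀ x₀) →
      ∃ x'' ∈ B, φ₀ x'' = n := by
    intro n x₀ hx₀ hn
    have ha2 : Ua ≤ U₂ := ha0.trans h02
    let Ja : Ua.toScheme ⟶ Spec (CommRingCat.of (invRing sq U₁ U₂ h12 s12)) :=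
      V.left.homOfLE ha2 ≫ U₂.toSpecΓ ≫ Spec.map (CommRingCat.ofHom μ) ≫
        Spec.map (CommRingCat.ofHom ρ)
    let x₀a : Ua.toScheme := ⟨x₀.1, hx₀⟩
    have hJa : Spec.map (CommRingCat.ofHom ρ) n = Ja x₀a := by
      rw [hn]
      have h1 : V.left.homOfLE h02 x₀ = V.left.homOfLE ha2 x₀a :=
        Subtype.ext (by rw [Scheme.homOfLE_apply, Scheme.homOfLE_apply])
      change Spec.map (CommRingCat.ofHom ρ) ((U₂.toSpecΓ ≫ Spec.map (CommRingCat.ofHom μ))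
        (V.left.homOfLE h02 x₀)) = Spec.map (CommRingCat.ofHom ρ)
          ((U₂.toSpecΓ ≫ Spec.map (CommRingCat.ofHom μ)) (V.left.homOfLE ha2 x₀a))
      rw [h1]
    obtain ⟨z, hz₁, hz₂⟩ := Scheme.Pullback.exists_preimage_pullback
      (f := Spec.map (CommRingCat.ofHom ρ)) (g := Ja) n x₀a hJa
    let pr₁ := pullback.fst (Spec.map (CommRingCat.ofHom ρ)) Ja
    let pr₂ := pullback.snd (Spec.map (CommRingCat.ofHom ρ)) Ja
    let y : pullback (Spec.map (CommRingCat.ofHom ρ)) Ja ⟶ V.left := pr₂ ≫ Ua.ι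
    have hy : Set.range y ⊆ (Ua : Set V.left) := by
      rintro _ ⟨z, rfl⟩; exact (pr₂ z).2
    have hy₂ : Set.range y ⊆ Set.range U₂.ι := by
      rw [Scheme.Opens.range_ι]; exact fun _ h => ha2 (hy h)
    have hlift : IsOpenImmersion.lift U₂.ι y hy₂ = pr₂ ≫ V.left.homOfLE ha2 := by
      rw [← cancel_mono U₂.ι, IsOpenImmersion.lift_fac, Category.assoc, Scheme.homOfLE_ι]
    have hcond : pr₁ ≫ Spec.map (CommRingCat.ofHom ρ) =
        IsOpenImmersion.lift U₂.ι y hy₂ ≫ U₂.toSpecΓ ≫ Spec.map (CommRingCat.ofHom μ) ≫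
          Spec.map (CommRingCat.ofHom ρ) := by
      rw [hlift, Category.assoc]; exact pullback.condition
    obtain ⟨y'', hy''₂, hy''b, hy''⟩ := exists_translate sq Ua Ub U₁ U₂
      (hab.trans (hb0.trans h01)) (hb0.trans h02) h12 sab s12 ρ α μ p1 p2 p8 p9 pr₁ y hy hy₂ hcond
    have hy''₀ : Set.range y'' ⊆ Set.range U₀.ι := by
      rw [Scheme.Opens.range_ι]; exact fun _ h => hb0 (hy''b h)
    have hl₀ : IsOpenImmersion.lift U₀.ι y'' hy''₀ ≫ V.left.homOfLE h02 =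
        IsOpenImmersion.lift U₂.ι y'' hy''₂ := by
      rw [← cancel_mono U₂.ι, IsOpenImmersion.lift_fac, Category.assoc, Scheme.homOfLE_ι,
        IsOpenImmersion.lift_fac]
    refine ⟨IsOpenImmersion.lift U₀.ι y'' hy''₀ z, ?_, ?_⟩
    · change U₀.ι (IsOpenImmersion.lift U₀.ι y'' hy''₀ z) ∈ Ub
      have h1 : U₀.ι (IsOpenImmersion.lift U₀.ι y'' hy''₀ z) = y'' z :=
        congr($(IsOpenImmersion.lift_fac U₀.ι y'' hy''₀) z)
      rw [h1]; exact hy''b ⟨z, rfl⟩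
    · have h1 : IsOpenImmersion.lift U₀.ι y'' hy''₀ ≫ φ₀ = pr₁ := by
        rw [hφ₀, ← Category.assoc, hl₀]; exact hy''
      have h2 : (IsOpenImmersion.lift U₀.ι y'' hy''₀ ≫ φ₀) z = pr₁ z := congr($h1 z)
      exact h2.trans hz₁
  obtain ⟨N', hN'c, hAN', hN'B⟩ :=
    exists_compact_open_sep φ₀ (CommRingCat.ofHom ρ) p7 A B hA hD
  have hcs : CompactSpace U₀.toScheme := isCompact_iff_compactSpace.mp hc₀
  set J : U₀.toScheme ⟶ Spec (CommRingCat.of (invRing sq U₁ U₂ h12 s12)) :=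
    φ₀ ≫ Spec.map (CommRingCat.ofHom ρ) with hJ
  have hJc : IsCompact ((J ⁻¹ᵁ N' : U₀.toScheme.Opens) : Set U₀.toScheme) :=
    J.isCompact_preimage hN'c
  have hOb : ((U₀.ι ''ᵁ (J ⁻¹ᵁ N') : V.left.Opens) : Set V.left) ⊆ Ub := by
    rintro _ ⟨y, hy, rfl⟩
    exact hN'B y hy
  refine ⟨U₀.ι ''ᵁ (J ⁻¹ᵁ N'), hJc.image U₀.ι.continuous, ?_, ?_⟩
  · exact ⟨⟨e, ha0 heUa⟩, hAN' ⟨e, ha0 heUa⟩ heUa, rfl⟩
  · intro Z x₁ x₂ hx hr
    have hr₁b : Set.range x₁.left ⊆ (Ub : Set V.left) := hr.trans hOb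
    have hr₂0 : Set.range x₂.left ⊆ (U₀ : Set V.left) := sb0 x₁ x₂ hx hr₁b
    have hr₁' : Set.range x₁.left ⊆ Set.range U₀.ι := by
      rw [Scheme.Opens.range_ι]; exact hr₁b.trans hb0
    have hr₂' : Set.range x₂.left ⊆ Set.range U₀.ι := by
      rw [Scheme.Opens.range_ι]; exact hr₂0
    have hr₁'' : Set.range x₁.left ⊆ Set.range U₂.ι := by
      rw [Scheme.Opens.range_ι]; exact (hr₁b.trans hb0).trans h02
    have hr₂'' : Set.range x₂.left ⊆ Set.range U₂.ι := by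
      rw [Scheme.Opens.range_ι]; exact hr₂0.trans h02
    have hl₁ : IsOpenImmersion.lift U₀.ι x₁.left hr₁' ≫ V.left.homOfLE h02 =
        IsOpenImmersion.lift U₂.ι x₁.left hr₁'' := by
      rw [← cancel_mono U₂.ι, IsOpenImmersion.lift_fac, Category.assoc, Scheme.homOfLE_ι,
        IsOpenImmersion.lift_fac]
    have hl₂ : IsOpenImmersion.lift U₀.ι x₂.left hr₂' ≫ V.left.homOfLE h02 =
        IsOpenImmersion.lift U₂.ι x₂.left hr₂'' := by
      rw [← cancel_mono U₂.ι, IsOpenImmersion.lift_fac, Category.assoc, Scheme.homOfLE_ι,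
        IsOpenImmersion.lift_fac]
    have hJeq : IsOpenImmersion.lift U₀.ι x₁.left hr₁' ≫ J =
        IsOpenImmersion.lift U₀.ι x₂.left hr₂' ≫ J := by
      rw [hJ, hφ₀]
      simp only [Category.assoc]
      rw [reassoc_of% hl₁, reassoc_of% hl₂]
      exact lift_quot_eq sq U₁ U₂ h12 s12 ρ μ p1 x₁ x₂ hx
        ((hr₁b.trans hb0).trans h01) hr₁'' hr₂''
    rintro _ ⟨z, rfl⟩
    refine ⟨IsOpenImmersion.lift U₀.ι x₂.left hr₂' z, ?_,
      congr($(IsOpenImmersion.lift_fac U₀.ι x₂.left hr₂') z)⟩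
    have h1 : J (IsOpenImmersion.lift U₀.ι x₂.left hr₂' z) =
        J (IsOpenImmersion.lift U₀.ι x₁.left hr₁' z) := congr($(hJeq.symm) z)
    change J (IsOpenImmersion.lift U₀.ι x₂.left hr₂' z) ∈ N'
    rw [h1]
    obtain ⟨y, hy, hyz⟩ := hr ⟨z, rfl⟩
    have h2 : y = IsOpenImmersion.lift U₀.ι x₁.left hr₁' z :=
      U₀.ι.isOpenEmbedding.injective
        (hyz.trans congr($(IsOpenImmersion.lift_fac U₀.ι x₁.left hr₁') z).symm)
    rw [← h2]; exact hy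

end Groth.Agent.H3.IQA
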