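import Groth.Agent.Lib.Helper3.IQA.Restrict
import Mathlib

/-!
# Effectiveness of descent data covered by invariant ind-quasi-affine opens (helper3)
-/

set_option autoImplicit false
set_option backward.isDefEq.respectTransparency false
set_option backward.isDefEq.respectTransparency.types false

universe u

open CategoryTheory CategoryTheory.Limits AlgebraicGeometry Opposite TopologicalSpace

namespace Groth.Agent.H3.IQA

open _root_.AlgSp Groth.Agent.H5.AlgSp Desc Groth.Agent.H3.DescSh

/-- A morphism whose source is ind-quasi-affine is ind-quasi-affine. -/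
theorem isIndQuasiAffineHom_of_isIndQuasiAffine_source {X Y : Scheme.{u}} (f : X ⟶ Y)
    (hX : MoreMor.IsIndQuasiAffine X) : MoreMor.IsIndQuasiAffineHom f := by
  rw [Groth.Agent.H1.isIndQuasiAffineHom_iff]
  intro W j _ _ V hV hr
  have hc : IsCompact (j.opensRange : Set X) := by
    simpa using isCompact_range j.continuous
  have := hX j.opensRange hc
  exact Groth.Agent.H1.isQuasiAffine_of_iso j.isoOpensRange

/-- An open subscheme of an affine open is ind-quasi-affine. -/
theorem isIndQuasiAffine_of_le_isAffineOpen {X : Scheme.{u}} (O U : X.Opens) (hU : IsAffineOpen U)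
    (hOU : O ≤ U) : MoreMor.IsIndQuasiAffine (O : Scheme.{u}) := by
  intro K hK
  have : CompactSpace (K : Scheme.{u}) := isCompact_iff_compactSpace.mp hK
  have : IsAffine (U : Scheme.{u}) := hU
  exact Scheme.IsQuasiAffine.of_isImmersion (K.ι ≫ X.homOfLE hOU)

/-- **Descent data of ind-quasi-affine morphisms relative to a flat, surjective, quasi-compact
morphism are effective.** -/
theorem effective_of_isIndQuasiAffine_fpqc {X S : Scheme.{u}} (p : X ⟶ S) [Surjective p] [Flat p]
    [QuasiCompact p] (D : SchDD p) (hD : MoreMor.IsIndQuasiAffineHom D.obj.hom) :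
    ∃ U : Over S, Nonempty ((toDD p).obj U ≅ D) := by
  obtain ⟨Y, ⟨E⟩⟩ := isEffective_of_isIndQuasiAffine (fun _ : PUnit.{u + 1} => p)
    (ofArrows_pUnit_mem_fpqc p) ((SchDDFam.ofSchDD.{u} p).obj D) (fun _ => hD)
  exact ⟨Y, ⟨(SchDDFam.toSchDD.{u} p).mapIso E⟩⟩

/-- Invariance for the sheaf of a descent datum gives invariance under the gluing bijections. -/
lemma isInvariant_of_sat {X S : Scheme.{u}} {p : X ⟶ S} (D : SchDD p) (O : D.obj.left.Opens)
    (hO : Sat (kap ((SchDDFam.ofSchDD.{u} p).obj D) PUnit.unit) O O) : IsInvariant D O := by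
  intro T x₀ x₁ h w hw
  let Z : Over S := Over.mk (x₀ ≫ p)
  let a₁ : Z ⟶ DO ((SchDDFam.ofSchDD.{u} p).obj D) PUnit.unit := Over.homMk w.1 (by
    change w.1 ≫ D.obj.hom ≫ p = x₀ ≫ p
    rw [← Category.assoc, w.2])
  let a₂ : Z ⟶ DO ((SchDDFam.ofSchDD.{u} p).obj D) PUnit.unit :=
    Over.homMk (D.φ x₀ x₁ h w).1 (by
      change (D.φ x₀ x₁ h w).1 ≫ D.obj.hom ≫ p = x₀ ≫ p
      rw [← Category.assoc, (D.φ x₀ x₁ h w).2, h])
  have heq : (yon S).map a₁ ≫ kap ((SchDDFam.ofSchDD.{u} p).obj D) PUnit.unit =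
      (yon S).map a₂ ≫ kap ((SchDDFam.ofSchDD.{u} p).obj D) PUnit.unit := by
    apply (secEquiv ((SchDDFam.ofSchDD.{u} p).obj D) Z).injective
    rw [secEquiv_map_kap ((SchDDFam.ofSchDD.{u} p).obj D) PUnit.unit a₁ x₀ w.2 rfl,
      secEquiv_map_kap ((SchDDFam.ofSchDD.{u} p).obj D) PUnit.unit a₂ x₁ (D.φ x₀ x₁ h w).2
        h.symm]
    exact (Kmk_φ ((SchDDFam.ofSchDD.{u} p).obj D) Z x₀ rfl x₁ h.symm w).symm
  exact hO a₁ a₂ heq hw

/-- **A descent datum relative to a flat, surjective, quasi-compact morphism which is covered by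
invariant opens that are ind-quasi-affine over the base is effective.** -/
theorem effective_of_invariant_cover {X S : Scheme.{u}} (p : X ⟶ S) [Surjective p] [Flat p]
    [QuasiCompact p] (D : SchDD p)
    (h : ∀ v : D.obj.left, ∃ O : D.obj.left.Opens, v ∈ O ∧ IsInvariant D O ∧
      MoreMor.IsIndQuasiAffineHom (O.ι ≫ D.obj.hom)) :
    ∃ U : Over S, Nonempty ((toDD p).obj U ≅ D) := by
  apply effective_of_locally_effective p D
  intro v
  obtain ⟨O, hvO, hinv, hqa⟩ := h v
  refine ⟨restrictDD D O hinv, restrictHom D O hinv, ?_, ?_, ?_⟩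
  · change IsOpenImmersion O.ι
    infer_instance
  · exact ⟨⟨v, hvO⟩, rfl⟩
  · exact effective_of_isIndQuasiAffine_fpqc p (restrictDD D O hinv) hqa

/-- Variant: the invariant opens are contained in affine opens. -/
theorem effective_of_invariant_cover_affine {X S : Scheme.{u}} (p : X ⟶ S) [Surjective p]
    [Flat p] [QuasiCompact p] (D : SchDD p)
    (h : ∀ v : D.obj.left, ∃ O U : D.obj.left.Opens, v ∈ O ∧ IsInvariant D O ∧ O ≤ U ∧
      IsAffineOpen U) :
    ∃ U : Over S, Nonempty ((toDD p).obj U ≅ D) := by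
  apply effective_of_invariant_cover p D
  intro v
  obtain ⟨O, U, hvO, hinv, hOU, hU⟩ := h v
  exact ⟨O, hvO, hinv, isIndQuasiAffineHom_of_isIndQuasiAffine_source _
    (isIndQuasiAffine_of_le_isAffineOpen O U hU hOU)⟩

end Groth.Agent.H3.IQA
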