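import Groth.Agent.Lib.Helper3.IQA.Coact
import Mathlib

/-!
# The partial quotient map is an open immersion (helper3)
-/

set_option autoImplicit false

universe u

open CategoryTheory CategoryTheory.Limits AlgebraicGeometry Opposite TopologicalSpace

namespace Groth.Agent.H3.IQA

lemma res_res {X : Scheme.{u}} {A B C : X.Opens} (hAB : A ≤ B) (hBC : B ≤ C) (x : Γ(X, C)) :
    (X.presheaf.map (homOfLE hAB).op).hom ((X.presheaf.map (homOfLE hBC).op).hom x) =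
      (X.presheaf.map (homOfLE (hAB.trans hBC)).op).hom x :=
  (congrArg (fun φ => φ.hom x) (X.presheaf.map_comp (homOfLE hBC).op (homOfLE hAB).op)).symm

/-- In a quasi-affine open `U₃`, the affine basic opens of functions on `U₃` form a basis. -/
lemma exists_affine_basicOpen {X : Scheme.{u}} (U₃ U₀ : X.Opens) [U₃.toScheme.IsQuasiAffine]
    (h : U₀ ≤ U₃) (x : X) (hx : x ∈ U₀) :
    ∃ g : Γ(X, U₃), IsAffineOpen (X.basicOpen g) ∧ x ∈ X.basicOpen g ∧ X.basicOpen g ≤ U₀ := by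
  have hx' : (⟨x, h hx⟩ : U₃.toScheme) ∈ U₃.ι ⁻¹ᵁ U₀ := hx
  obtain ⟨_, ⟨_, ⟨r, hr, rfl⟩, rfl⟩, hxr, hrO⟩ := (Scheme.IsQuasiAffine.isBasis_basicOpen
    U₃.toScheme).exists_subset_of_mem_open hx' (U₃.ι ⁻¹ᵁ U₀).2
  have e : U₃.ι ''ᵁ U₃.toScheme.basicOpen r = X.basicOpen (U₃.topIso.hom r) := by
    have h1 := U₃.ι_image_basicOpen_topIso_inv (U₃.topIso.hom r)
    have h2 : U₃.topIso.inv (U₃.topIso.hom r) = r :=
      congrArg (fun φ => φ.hom r) U₃.topIso.hom_inv_id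
    rwa [h2] at h1
  refine ⟨U₃.topIso.hom r, ?_, ?_, ?_⟩
  · rw [← e]; exact hr.image_of_isOpenImmersion U₃.ι
  · rw [← e]; exact ⟨⟨x, h hx⟩, hxr, rfl⟩
  · rw [← e]; rintro _ ⟨y, hy, rfl⟩; exact hrO hy

section Coaction

variable {X W : Scheme.{u}} (a q : W ⟶ X) (U₀ U₁ U₂ U₃ : X.Opens)
    (h02 : U₀ ≤ U₂) (h12 : U₁ ≤ U₂) (h23 : U₂ ≤ U₃)
    (hc₂ : IsCompact (U₂ : Set X)) (hc₃ : IsCompact (U₃ : Set X))
    (hqs₃ : IsQuasiSeparated (U₃ : Set X))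
    (hcW : IsCompact ((q ⁻¹ᵁ U₂ : W.Opens) : Set W))
    (l01 : a ⁻¹ᵁ U₀ ≤ q ⁻¹ᵁ U₁) (l12 : q ⁻¹ᵁ U₁ ≤ a ⁻¹ᵁ U₂) (l23 : q ⁻¹ᵁ U₂ ≤ a ⁻¹ᵁ U₃)
    {N : Type u} [CommRing N] (μ : N →+* Γ(X, U₂)) (Θ : Γ(X, U₃) →+* N)
    (κ : N →+* Γ(W, q ⁻¹ᵁ U₂))
    (h3 : ∀ f, μ (Θ f) = (X.presheaf.map (homOfLE h23).op).hom f)
    (h4 : Function.Injective κ)
    (h5 : ∀ f, κ (Θ f) = (a.appLE U₃ (q ⁻¹ᵁ U₂) l23).hom f)
    (h6 : ∀ z, (W.presheaf.map (homOfLE (preimage_le q h12)).op).hom (κ z) =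
        (a.appLE U₂ (q ⁻¹ᵁ U₁) l12).hom (μ z))

include hc₂ hcW l01 h3 h4 h5 h6 in
lemma exists_pow_mul_eq_zero_of_coaction (g : Γ(X, U₃)) (hg0 : X.basicOpen g ≤ U₀) (z : N)
    (hz : (X.presheaf.map (homOfLE (hg0.trans h02)).op).hom (μ z) = 0) :
    ∃ n : ℕ, (Θ g) ^ n * z = 0 := by
  set g₂ : Γ(X, U₂) := (X.presheaf.map (homOfLE h23).op).hom g with hg₂
  have hb : X.basicOpen g₂ = X.basicOpen g :=
    (X.basicOpen_res g (homOfLE h23).op).trans (inf_eq_right.2 (hg0.trans h02))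
  have H1 : (X.presheaf.map (homOfLE (X.basicOpen_le g₂)).op).hom (μ z) = 0 := by
    rw [← res_res hb.le (hg0.trans h02) (μ z), hz, map_zero]
  obtain ⟨n, hn⟩ := exists_pow_mul_eq_zero_of_res_basicOpen_eq_zero_of_isCompact X hc₂ (μ z) g₂ H1
  have hμz' : μ (Θ g ^ n * z) = 0 := by rw [map_mul, map_pow, h3]; exact hn
  have hG : W.basicOpen (κ (Θ g)) ≤ q ⁻¹ᵁ U₁ := by
    rw [h5]
    have h0 := Scheme.basicOpen_appLE a (q ⁻¹ᵁ U₂) U₃ l23 g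
    have h1 : W.basicOpen ((a.appLE U₃ (q ⁻¹ᵁ U₂) l23).hom g) ≤ a ⁻¹ᵁ X.basicOpen g :=
      h0.le.trans inf_le_right
    exact h1.trans ((preimage_le a hg0).trans l01)
  have H2 : (W.presheaf.map (homOfLE (W.basicOpen_le (κ (Θ g)))).op).hom (κ (Θ g ^ n * z)) = 0 := by
    rw [← res_res hG (preimage_le q h12) (κ (Θ g ^ n * z)), h6, hμz', map_zero, map_zero]
  obtain ⟨k, hk⟩ := exists_pow_mul_eq_zero_of_res_basicOpen_eq_zero_of_isCompact W hcW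
    (κ (Θ g ^ n * z)) (κ (Θ g)) H2
  refine ⟨k + n, ?_⟩
  apply h4
  rw [map_zero, pow_add, mul_assoc, map_mul, map_pow]
  exact hk

include hc₂ hc₃ hqs₃ hcW l01 h3 h4 h5 h6 in
lemma isLocalization_of_coaction (g : Γ(X, U₃)) (hg0 : X.basicOpen g ≤ U₀) :
    @IsLocalization.Away N _ (Θ g) Γ(X, X.basicOpen g) _
      (((X.presheaf.map (homOfLE (hg0.trans h02)).op).hom.comp μ).toAlgebra) := by
  let _ : Algebra N Γ(X, X.basicOpen g) :=
    ((X.presheaf.map (homOfLE (hg0.trans h02)).op).hom.comp μ).toAlgebra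
  have halg : ∀ n : N, algebraMap N Γ(X, X.basicOpen g) n =
      (X.presheaf.map (homOfLE (hg0.trans h02)).op).hom (μ n) := fun _ => rfl
  have hΘ : ∀ f, algebraMap N Γ(X, X.basicOpen g) (Θ f) =
      (X.presheaf.map (homOfLE (X.basicOpen_le g)).op).hom f := by
    intro f; rw [halg, h3, res_res]
  refine (isLocalization_iff (M := Submonoid.powers (Θ g))
    (S := Γ(X, X.basicOpen g))).2 ⟨?_, ?_, ?_⟩
  · rintro ⟨_, n, rfl⟩
    rw [map_pow, hΘ]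
    exact IsUnit.pow _ (RingedSpace.isUnit_res_basicOpen _ g)
  · intro z
    obtain ⟨n, y, e⟩ := exists_eq_pow_mul_of_isCompact_of_isQuasiSeparated X U₃ hc₃ hqs₃ g z
    refine ⟨⟨Θ y, ⟨_, n, rfl⟩⟩, ?_⟩
    change z * algebraMap N _ (Θ g ^ n) = algebraMap N _ (Θ y)
    rw [map_pow, hΘ, hΘ, mul_comm]
    exact e.symm
  · intro x y hxy
    have hz : (X.presheaf.map (homOfLE (hg0.trans h02)).op).hom (μ (x - y)) = 0 := by
      rw [map_sub, map_sub, ← halg, ← halg, hxy, sub_self]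
    obtain ⟨n, hn⟩ := exists_pow_mul_eq_zero_of_coaction a q U₀ U₁ U₂ U₃ h02 h12 h23 hc₂ hcW
      l01 l12 l23 μ Θ κ h3 h4 h5 h6 g hg0 (x - y) hz
    refine ⟨⟨_, n, rfl⟩, ?_⟩
    change Θ g ^ n * x = Θ g ^ n * y
    rw [← sub_eq_zero, ← mul_sub]
    exact hn

include hc₂ hc₃ hcW l01 h3 h4 h5 h6 in
theorem isOpenImmersion_of_coaction [U₃.toScheme.IsQuasiAffine] :
    IsOpenImmersion (X.homOfLE h02 ≫ U₂.toSpecΓ ≫ Spec.map (CommRingCat.ofHom μ)) := by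
  have hqs₃' : QuasiSeparatedSpace (U₃ : Scheme.{u}) := inferInstance
  have hqs₃ : IsQuasiSeparated (U₃ : Set X) :=
    (isQuasiSeparated_iff_quasiSeparatedSpace _ U₃.2).2 hqs₃'
  set φ₂ : U₂.toScheme ⟶ Spec (CommRingCat.of N) :=
    U₂.toSpecΓ ≫ Spec.map (CommRingCat.ofHom μ) with hφ₂
  -- preimages of basic opens
  have hpre : ∀ n : N, φ₂ ⁻¹ᵁ (PrimeSpectrum.basicOpen n) = U₂.ι ⁻¹ᵁ X.basicOpen (μ n) := by
    intro n
    rw [hφ₂, Scheme.Hom.comp_preimage]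
    have h0 : Spec.map (CommRingCat.ofHom μ) ⁻¹ᵁ PrimeSpectrum.basicOpen n =
        PrimeSpectrum.basicOpen (μ n) := rfl
    rw [h0, Scheme.Opens.toSpecΓ_preimage_basicOpen]
  have hmem : ∀ (g : Γ(X, U₃)) (x : U₂.toScheme),
      φ₂ x ∈ PrimeSpectrum.basicOpen (Θ g) ↔ x.1 ∈ X.basicOpen g := by
    intro g x
    have h0 : φ₂ x ∈ PrimeSpectrum.basicOpen (Θ g) ↔ x ∈ φ₂ ⁻¹ᵁ (PrimeSpectrum.basicOpen (Θ g)) :=
      Iff.rfl
    rw [h0, hpre, h3]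
    have h1 : X.basicOpen ((X.presheaf.map (homOfLE h23).op).hom g) = U₂ ⊓ X.basicOpen g :=
      X.basicOpen_res g (homOfLE h23).op
    rw [h1]
    exact ⟨fun h => h.2, fun h => ⟨x.2, h⟩⟩
  -- the affine pieces
  have hpiece : ∀ g : Γ(X, U₃), IsAffineOpen (X.basicOpen g) → ∀ hg0 : X.basicOpen g ≤ U₀,
      IsOpenImmersion (X.homOfLE (hg0.trans h02) ≫ φ₂) := by
    intro g hga hg0
    have hloc := isLocalization_of_coaction a q U₀ U₁ U₂ U₃ h02 h12 h23 hc₂ hc₃ hqs₃ hcW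
      l01 l12 l23 μ Θ κ h3 h4 h5 h6 g hg0
    let _ : Algebra N Γ(X, X.basicOpen g) :=
      ((X.presheaf.map (homOfLE (hg0.trans h02)).op).hom.comp μ).toAlgebra
    have h1 : X.homOfLE (hg0.trans h02) ≫ φ₂ = (X.basicOpen g).toSpecΓ ≫
        Spec.map (CommRingCat.ofHom (algebraMap N Γ(X, X.basicOpen g))) := by
      rw [hφ₂, ← Scheme.Opens.toSpecΓ_SpecMap_presheaf_map_assoc, ← Spec.map_comp]
      rfl
    rw [h1]
    have h2 : IsIso (X.basicOpen g).toSpecΓ := by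
      rw [← hga.isoSpec_hom]; infer_instance
    have h3 := IsOpenImmersion.of_isLocalization (R := N) (S := Γ(X, X.basicOpen g)) (Θ g)
    infer_instance
  apply IsOpenImmersion.of_forall_source_exists
  · intro x y hxy
    obtain ⟨g, hga, hxg, hg0⟩ := exists_affine_basicOpen U₃ U₀ (h02.trans h23) x.1 x.2
    have hx1 : (X.homOfLE h02 ≫ φ₂) x = φ₂ (X.homOfLE h02 x) := rfl
    have hy1 : (X.homOfLE h02 ≫ φ₂) y = φ₂ (X.homOfLE h02 y) := rfl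
    have hx2 : φ₂ (X.homOfLE h02 x) ∈ PrimeSpectrum.basicOpen (Θ g) := by
      rw [hmem, Scheme.homOfLE_apply]; exact hxg
    have hy2 : φ₂ (X.homOfLE h02 y) ∈ PrimeSpectrum.basicOpen (Θ g) := by
      rw [← hy1, ← hxy, hx1]; exact hx2
    have hyg : y.1 ∈ X.basicOpen g := by
      rw [hmem, Scheme.homOfLE_apply] at hy2; exact hy2
    have := hpiece g hga hg0
    have hinj : Function.Injective (X.homOfLE (hg0.trans h02) ≫ φ₂) :=
      (X.homOfLE (hg0.trans h02) ≫ φ₂).isOpenEmbedding.injective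
    have hx3 : X.homOfLE hg0 ⟨x.1, hxg⟩ = x := Subtype.ext (Scheme.homOfLE_apply _ _)
    have hy3 : X.homOfLE hg0 ⟨y.1, hyg⟩ = y := Subtype.ext (Scheme.homOfLE_apply _ _)
    have hc : (X.homOfLE (hg0.trans h02) ≫ φ₂) ⟨x.1, hxg⟩ =
        (X.homOfLE (hg0.trans h02) ≫ φ₂) ⟨y.1, hyg⟩ := by
      rw [← X.homOfLE_homOfLE hg0 h02]
      change (X.homOfLE h02 ≫ φ₂) (X.homOfLE hg0 ⟨x.1, hxg⟩) =
        (X.homOfLE h02 ≫ φ₂) (X.homOfLE hg0 ⟨y.1, hyg⟩)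
      rw [hx3, hy3]; exact hxy
    have h4 := hinj hc
    have h5 : ((⟨x.1, hxg⟩ : (X.basicOpen g).toScheme) : X) =
        ((⟨y.1, hyg⟩ : (X.basicOpen g).toScheme) : X) := congrArg Subtype.val h4
    exact Subtype.ext h5
  · intro x
    obtain ⟨g, hga, hxg, hg0⟩ := exists_affine_basicOpen U₃ U₀ (h02.trans h23) x.1 x.2
    refine ⟨(X.basicOpen g).toScheme, X.homOfLE hg0, inferInstance, ?_, ?_⟩
    · exact ⟨⟨x.1, hxg⟩, Subtype.ext (Scheme.homOfLE_apply _ _)⟩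
    · rw [← Category.assoc, X.homOfLE_homOfLE]
      exact hpiece g hga hg0

end Coaction

open _root_.AlgSp Groth.Agent.H5.AlgSp

variable {S : Scheme.{u}} {T T' V : Over S} {c : T' ⟶ T} {v : V ⟶ T'} {F : Sp S}
  {π : F ⟶ (yon S).obj T} {u : (yon S).obj V ⟶ F}
  (sq : IsPullback u ((yon S).map v) π ((yon S).map c))

/-- The ring of functions on `U₂` which are invariant relative to `U₁`. -/
noncomputable abbrev invRing (U₁ U₂ : V.left.Opens) (h12 : U₁ ≤ U₂) (s12 : Sat u U₁ U₂) :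
    Subring Γ(V.left, U₂) :=
  RingHom.eqLocus
    ((act sq).left.appLE U₂ ((pullback.snd c (v ≫ c)).left ⁻¹ᵁ U₁) (s12.snd_le_act sq)).hom
    ((pullback.snd c (v ≫ c)).left.appLE U₂ ((pullback.snd c (v ≫ c)).left ⁻¹ᵁ U₁)
      (preimage_le _ h12)).hom

/-- **The partial quotient.**  For quasi-compact opens `U₀ ≤ U₁ ≤ U₂ ≤ U₃` of `V`, each
containing the saturation of the previous one, with `U₃` quasi-affine, there is a ring `N`, flat
over the ring `M₀` of partially invariant functions and generated by `M₀` and `Γ(T')`, such that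
`U₀ ⟶ Spec N` is an open immersion. -/
theorem exists_partial_quotient [IsAffine T.left] [IsAffine T'.left] [Flat c.left]
    (U₀ U₁ U₂ U₃ : V.left.Opens) (h01 : U₀ ≤ U₁) (h12 : U₁ ≤ U₂) (h23 : U₂ ≤ U₃)
    (hc₁ : IsCompact (U₁ : Set V.left)) (hc₂ : IsCompact (U₂ : Set V.left))
    (hc₃ : IsCompact (U₃ : Set V.left)) [U₃.toScheme.IsQuasiAffine]
    (s01 : Sat u U₀ U₁) (s12 : Sat u U₁ U₂) (s23 : Sat u U₂ U₃) :
    ∃ (N : Type u) (_ : CommRing N) (ρ : invRing sq U₁ U₂ h12 s12 →+* N)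
      (α : Γ(T'.left, ⊤) →+* N) (μ : N →+* Γ(V.left, U₂)),
      (∀ m, μ (ρ m) = m.1) ∧
      (∀ a, μ (α a) = (v.left.appLE ⊤ U₂ le_top).hom a) ∧
      ρ.Flat ∧
      (∀ (R : Type u) [CommRing R] (f g : N →+* R), f.comp ρ = g.comp ρ → f.comp α = g.comp α →
        f = g) ∧
      (∀ a₀ : Γ(T.left, ⊤), ∃ hm, ρ ⟨((v ≫ c).left.appLE ⊤ U₂ le_top).hom a₀, hm⟩ =
        α (c.left.appTop.hom a₀)) ∧
      IsOpenImmersion (V.left.homOfLE (h01.trans h12) ≫ U₂.toSpecΓ ≫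
        Spec.map (CommRingCat.ofHom μ)) := by
  have hqs₃' : QuasiSeparatedSpace (U₃ : Scheme.{u}) := inferInstance
  have hqs₃ : IsQuasiSeparated (U₃ : Set V.left) :=
    (isQuasiSeparated_iff_quasiSeparatedSpace _ U₃.2).2 hqs₃'
  have hqs₂ : IsQuasiSeparated (U₂ : Set V.left) := hqs₃.of_subset h23
  have hq₂aff : IsAffineHom (pullback.snd c (v ≫ c)).left := isAffineHom_snd
  have hcW : IsCompact (((pullback.snd c (v ≫ c)).left ⁻¹ᵁ U₂ :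
      (pullback c (v ≫ c)).left.Opens) : Set (pullback c (v ≫ c)).left) :=
    QuasiCompact.isCompact_preimage (f := (pullback.snd c (v ≫ c)).left) _ U₂.2 hc₂
  obtain ⟨N, _, ρ, α, μ, Θ, κ, p1, p2, p3, p4, p5, p6, p7, p8, p9⟩ :=
    exists_partial_descent sq U₁ U₂ U₃ h12 h23 hc₁ hc₂ hqs₂ s12 s23
  refine ⟨N, inferInstance, ρ, α, μ, p1, p2, p7, p8, p9, ?_⟩
  exact isOpenImmersion_of_coaction (act sq).left (pullback.snd c (v ≫ c)).left U₀ U₁ U₂ U₃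
    (h01.trans h12) h12 h23 hc₂ hc₃ hcW (s01.act_le_snd sq) (s12.snd_le_act sq)
    (s23.snd_le_act sq) μ Θ κ p3 p4 p5 p6

end Groth.Agent.H3.IQA
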