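import Groth.Agent.Lib.Helper3.IQA.LocEff
import Mathlib

/-!
# Orbits of points under a descent datum; descent along finite locally free morphisms (helper3)
-/

set_option autoImplicit false

universe u

open CategoryTheory CategoryTheory.Limits AlgebraicGeometry Opposite TopologicalSpace

namespace Groth.Agent.H3.IQA

open _root_.AlgSp Groth.Agent.H5.AlgSp

section orbit

variable {S : Scheme.{u}} {T T' V : Over S} {c : T' ⟶ T} {v : V ⟶ T'} {F : Sp S}
  {π : F ⟶ (yon S).obj T} {u : (yon S).obj V ⟶ F}
  (sq : IsPullback u ((yon S).map v) π ((yon S).map c))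

/-- **Transitivity of the pointwise equivalence relation.** -/
theorem exists_comp_point (w w_b : (pullback c (v ≫ c)).left)
    (h : (pullback.snd c (v ≫ c)).left w = (act sq).left w_b) :
    ∃ w' : (pullback c (v ≫ c)).left,
      (pullback.snd c (v ≫ c)).left w' = (pullback.snd c (v ≫ c)).left w_b ∧
      (act sq).left w' = (act sq).left w := by
  -- `θ : W ×_V W ⟶ T' ×_T W`
  have hcond : (pullback.fst (pullback.snd c (v ≫ c)) (act sq) ≫ pullback.fst c (v ≫ c)) ≫ c =
      pullback.snd (pullback.snd c (v ≫ c)) (act sq) ≫ pullback.snd c (v ≫ c) ≫ v ≫ c := by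
    have e1 : pullback.fst c (v ≫ c) ≫ c = pullback.snd c (v ≫ c) ≫ v ≫ c := pullback.condition
    have e2 : pullback.fst (pullback.snd c (v ≫ c)) (act sq) ≫ pullback.snd c (v ≫ c) =
        pullback.snd (pullback.snd c (v ≫ c)) (act sq) ≫ act sq := pullback.condition
    have e3 : act sq ≫ v ≫ c = pullback.snd c (v ≫ c) ≫ v ≫ c := by
      rw [← Category.assoc, act_v, e1]
    rw [Category.assoc, e1, reassoc_of% e2, e3]
  let θ : pullback (pullback.snd c (v ≫ c)) (act sq) ⟶
      pullback c (pullback.snd c (v ≫ c) ≫ v ≫ c) :=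
    pullback.lift (pullback.fst (pullback.snd c (v ≫ c)) (act sq) ≫ pullback.fst c (v ≫ c))
      (pullback.snd (pullback.snd c (v ≫ c)) (act sq)) hcond
  have hθ₁ : θ ≫ pullback.fst c (pullback.snd c (v ≫ c) ≫ v ≫ c) =
      pullback.fst (pullback.snd c (v ≫ c)) (act sq) ≫ pullback.fst c (v ≫ c) :=
    pullback.lift_fst _ _ _
  have hθ₂ : θ ≫ pullback.snd c (pullback.snd c (v ≫ c) ≫ v ≫ c) =
      pullback.snd (pullback.snd c (v ≫ c)) (act sq) := pullback.lift_snd _ _ _
  have hm₁ : θ ≫ m₁ sq = pullback.fst (pullback.snd c (v ≫ c)) (act sq) := by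
    apply pullback.hom_ext
    · rw [Category.assoc, m₁_fst, hθ₁]
    · rw [Category.assoc, m₁_snd, reassoc_of% hθ₂]
      exact pullback.condition.symm
  have h₂ : (θ ≫ m₂ c v) ≫ pullback.snd c (v ≫ c) =
      pullback.snd (pullback.snd c (v ≫ c)) (act sq) ≫ pullback.snd c (v ≫ c) := by
    rw [Category.assoc, m₂_snd, reassoc_of% hθ₂]
  have hact : (θ ≫ m₂ c v) ≫ act sq =
      pullback.fst (pullback.snd c (v ≫ c)) (act sq) ≫ act sq := by
    rw [Category.assoc, ← m₁_act, reassoc_of% hm₁]
  -- the point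
  have sqP := (IsPullback.of_hasPullback (pullback.snd c (v ≫ c)) (act sq)).map (Over.forget S)
  obtain ⟨ξ, hξ₁, hξ₂⟩ := Scheme.exists_preimage_of_isPullback sqP w w_b h
  refine ⟨(θ ≫ m₂ c v).left ξ, ?_, ?_⟩
  · have e := congrArg (fun m => m.left) h₂
    have e' := congr($e ξ)
    change (pullback.snd c (v ≫ c)).left ((θ ≫ m₂ c v).left ξ) =
      (pullback.snd c (v ≫ c)).left
        ((pullback.snd (pullback.snd c (v ≫ c)) (act sq)).left ξ) at e'
    rw [e']
    exact congrArg _ hξ₂
  · have e := congrArg (fun m => m.left) hact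
    have e' := congr($e ξ)
    change (act sq).left ((θ ≫ m₂ c v).left ξ) =
      (act sq).left ((pullback.fst (pullback.snd c (v ≫ c)) (act sq)).left ξ) at e'
    rw [e']
    exact congrArg _ hξ₁

/-- The largest invariant subset contained in `U`: the complement of the saturation of the
complement of `U`. -/
def satCompl (U : Set V.left) : Set V.left :=
  ((pullback.snd c (v ≫ c)).left '' ((act sq).left ⁻¹' Uᶜ))ᶜ

lemma satCompl_subset (U : Set V.left) : satCompl sq U ⊆ U := by
  intro x hx
  by_contra hxU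
  apply hx
  refine ⟨(unitSec c v).left x, ?_, ?_⟩
  · change ((unitSec c v).left ≫ (act sq).left) x ∈ Uᶜ
    rw [← Over.comp_left, unitSec_act]
    exact hxU
  · change ((unitSec c v).left ≫ (pullback.snd c (v ≫ c)).left) x = x
    rw [← Over.comp_left, unitSec_snd]
    rfl

lemma mem_satCompl_of_orbit_subset (U : Set V.left) (x : V.left)
    (h : (act sq).left '' ((pullback.snd c (v ≫ c)).left ⁻¹' {x}) ⊆ U) : x ∈ satCompl sq U := by
  rintro ⟨w, hw, hwx⟩
  exact hw (h ⟨w, hwx, rfl⟩)

/-- `satCompl U` is invariant. -/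
theorem sat_satCompl (O : V.left.Opens) (U : Set V.left) (hO : (O : Set V.left) = satCompl sq U) :
    Sat u O O := by
  intro Z x₁ x₂ hx hr
  rintro _ ⟨z, rfl⟩
  rw [hO]
  rintro ⟨w, hw, hwx⟩
  have hb₁ : (pullback.snd c (v ≫ c)).left ((pairLift sq x₁ x₂ hx).left z) = x₁.left z := by
    change ((pairLift sq x₁ x₂ hx).left ≫ (pullback.snd c (v ≫ c)).left) z = _
    rw [← Over.comp_left, pairLift_snd]
  have hb₂ : (act sq).left ((pairLift sq x₁ x₂ hx).left z) = x₂.left z := by
    change ((pairLift sq x₁ x₂ hx).left ≫ (act sq).left) z = _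
    rw [← Over.comp_left, pairLift_act]
  obtain ⟨w', hw'₁, hw'₂⟩ := exists_comp_point sq w ((pairLift sq x₁ x₂ hx).left z)
    (hwx.trans hb₂.symm)
  have h1 : x₁.left z ∈ (O : Set V.left) := hr ⟨z, rfl⟩
  rw [hO] at h1
  apply h1
  refine ⟨w', ?_, hw'₁.trans hb₁⟩
  change (act sq).left w' ∈ Uᶜ
  rw [hw'₂]
  exact hw

lemma isFinite_snd [IsFinite c.left] : IsFinite (pullback.snd c (v ≫ c)).left := by
  have h0 : IsFinite (pullback.snd c.left (v ≫ c).left) :=
    MorphismProperty.pullback_snd (P := @IsFinite) _ _ inferInstance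
  exact (left_pullback_snd_iff @IsFinite c (v ≫ c)).2 h0

/-- The orbit of a point under a descent datum relative to a finite morphism is finite. -/
lemma orbit_finite [IsFinite c.left] (x : V.left) :
    ((act sq).left '' ((pullback.snd c (v ≫ c)).left ⁻¹' {x})).Finite := by
  have := isFinite_snd (c := c) (v := v)
  exact ((pullback.snd c (v ≫ c)).left.finite_preimage_singleton x).image _

/-- The points of the orbit of `x` lie over the image of `x` in `T`. -/
lemma orbit_over (x x' : V.left)
    (hx' : x' ∈ (act sq).left '' ((pullback.snd c (v ≫ c)).left ⁻¹' {x})) :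
    (v ≫ c).left x' = (v ≫ c).left x := by
  obtain ⟨w, hw, rfl⟩ := hx'
  have hw' : (pullback.snd c (v ≫ c)).left w = x := hw
  have e : act sq ≫ v ≫ c = pullback.snd c (v ≫ c) ≫ v ≫ c := by
    rw [← Category.assoc, act_v]
    exact pullback.condition
  have e0 : (act sq ≫ v ≫ c).left = (pullback.snd c (v ≫ c) ≫ v ≫ c).left :=
    congrArg (fun m => m.left) e
  have e' := congr($e0 w)
  change (v ≫ c).left ((act sq).left w) = (v ≫ c).left ((pullback.snd c (v ≫ c)).left w) at e'
  rw [e', hw']

/-- If the orbit of `x` is contained in the open `U`, then `x` has an invariant open neighbourhood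
contained in `U` (the morphism `c` being finite). -/
theorem exists_invariant_open_of_finite [IsFinite c.left] (x : V.left) (U : V.left.Opens)
    (hU : (act sq).left '' ((pullback.snd c (v ≫ c)).left ⁻¹' {x}) ⊆ (U : Set V.left)) :
    ∃ O : V.left.Opens, x ∈ O ∧ O ≤ U ∧ Sat u O O := by
  have := isFinite_snd (c := c) (v := v)
  have hcl : IsClosed ((pullback.snd c (v ≫ c)).left '' ((act sq).left ⁻¹' (U : Set V.left)ᶜ)) :=
    (pullback.snd c (v ≫ c)).left.isClosedMap _
      (U.2.isClosed_compl.preimage (act sq).left.continuous)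
  refine ⟨⟨satCompl sq (U : Set V.left), hcl.isOpen_compl⟩, ?_, ?_, ?_⟩
  · exact mem_satCompl_of_orbit_subset sq _ x hU
  · exact satCompl_subset sq _
  · exact sat_satCompl sq _ (U : Set V.left) rfl

end orbit

section finite

open Desc Groth.Agent.H3.DescSh

set_option backward.isDefEq.respectTransparency false in
set_option backward.isDefEq.respectTransparency.types false in
/-- **Descent along finite flat surjective morphisms: a descent datum such that every finite set
of points over a common point of the base lies in an affine open is effective.** -/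
theorem effective_of_finite_of_fibres_in_affine {X Y : Scheme.{u}} (p : X ⟶ Y) [Surjective p]
    [IsFinite p] [Flat p] (D : SchDD p)
    (hV : ∀ (y : Y) (s : Finset ↑(D.obj.left)), (∀ v ∈ s, p (D.obj.hom v) = y) →
      ∃ U : D.obj.left.Opens, IsAffineOpen U ∧ ∀ v ∈ s, v ∈ U) :
    ∃ W : Over Y, Nonempty ((toDD p).obj W ≅ D) := by
  apply effective_of_invariant_cover_affine p D
  intro v₀
  have sq := isPullback_kap ((SchDDFam.ofSchDD.{u} p).obj D) PUnit.unit
  have hfin : IsFinite (toBase (XO (fun _ : PUnit.{u + 1} => p) PUnit.unit)).left :=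
    inferInstanceAs (IsFinite p)
  have hof := orbit_finite sq (v₀ : (DO ((SchDDFam.ofSchDD.{u} p).obj D) PUnit.unit).left)
  obtain ⟨U, hU, hsU⟩ := hV (p (D.obj.hom v₀)) hof.toFinset (by
    intro x hx
    rw [Set.Finite.mem_toFinset] at hx
    exact orbit_over sq _ x hx)
  obtain ⟨O, hvO, hOU, hsat⟩ := exists_invariant_open_of_finite sq
    (v₀ : (DO ((SchDDFam.ofSchDD.{u} p).obj D) PUnit.unit).left) U (by
      intro x hx
      exact hsU x ((Set.Finite.mem_toFinset hof).2 hx))
  exact ⟨O, U, hvO, isInvariant_of_sat D O hsat, hOU, hU⟩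

end finite

end Groth.Agent.H3.IQA
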