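import Groth.Agent.Lib.Helper3.IQA.LocEff
import Mathlib

/-!
# Descent along universally injective fpqc morphisms (helper3)
-/

set_option autoImplicit false
set_option backward.isDefEq.respectTransparency false
set_option backward.isDefEq.respectTransparency.types false

universe u

open CategoryTheory CategoryTheory.Limits AlgebraicGeometry Opposite TopologicalSpace

namespace Groth.Agent.H3.IQA

open _root_.AlgSp Groth.Agent.H5.AlgSp Desc Groth.Agent.H3.DescSh

/-- Relative to a universally injective morphism, every open is invariant. -/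
theorem isInvariant_of_universallyInjective {X S : Scheme.{u}} (g : X ⟶ S)
    [UniversallyInjective g] (D : SchDD g) (O : D.obj.left.Opens) : IsInvariant D O := by
  intro T x₀ x₁ h v hv
  rintro _ ⟨t, rfl⟩
  have hU : UniversallyInjective g := inferInstance
  have hall : ∀ (K : Type u) [Field K],
      Function.Injective (fun k : Spec (.of K) ⟶ X ↦ k ≫ g) :=
    ((tfae_universallyInjective g).out 0 1).1 hU
  have hinj := hall (T.residueField t)
  have h' : (T.fromSpecResidueField t ≫ x₀) ≫ g = (T.fromSpecResidueField t ≫ x₁) ≫ g := by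
    rw [Category.assoc, Category.assoc, h]
  have e : T.fromSpecResidueField t ≫ x₀ = T.fromSpecResidueField t ≫ x₁ := hinj h'
  let v' : Lifts D.obj (T.fromSpecResidueField t ≫ x₀) :=
    ⟨T.fromSpecResidueField t ≫ v.1, by rw [Category.assoc, v.2]⟩
  have hnat := D.φ_natural (T.fromSpecResidueField t) x₀ x₁ h h' v v' rfl
  have key : ∀ (y y' : Spec (T.residueField t) ⟶ X) (_ : y = y') (hh : y ≫ g = y' ≫ g)
      (w : Lifts D.obj y), (D.φ y y' hh w).1 = w.1 := by
    rintro y _ rfl hh w
    rw [D.φ_self]
  have h2 : T.fromSpecResidueField t ≫ (D.φ x₀ x₁ h v).1 = T.fromSpecResidueField t ≫ v.1 := by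
    rw [← hnat, key _ _ e h' v']
  have h3 := congr($h2 (IsLocalRing.closedPoint _))
  have h4 : (D.φ x₀ x₁ h v).1 t = v.1 t := by
    have e1 : (T.fromSpecResidueField t ≫ (D.φ x₀ x₁ h v).1) (IsLocalRing.closedPoint _) =
        (D.φ x₀ x₁ h v).1 (T.fromSpecResidueField t (IsLocalRing.closedPoint _)) := rfl
    have e2 : (T.fromSpecResidueField t ≫ v.1) (IsLocalRing.closedPoint _) =
        v.1 (T.fromSpecResidueField t (IsLocalRing.closedPoint _)) := rfl
    rw [e1, e2, Scheme.fromSpecResidueField_apply] at h3
    exact h3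
  rw [h4]
  exact hv ⟨t, rfl⟩

/-- **Every descent datum relative to a flat, surjective, quasi-compact, universally injective
morphism is effective.** -/
theorem effective_of_universallyInjective {X S : Scheme.{u}} (g : X ⟶ S) [Flat g] [Surjective g]
    [QuasiCompact g] [UniversallyInjective g] (D : SchDD g) :
    ∃ U : Over S, Nonempty ((toDD g).obj U ≅ D) := by
  apply effective_of_invariant_cover_affine g D
  intro v
  obtain ⟨O, hO, hvO⟩ : ∃ O : D.obj.left.Opens, IsAffineOpen O ∧ v ∈ O := by
    obtain ⟨_, ⟨O, hO, rfl⟩, hvO, -⟩ := D.obj.left.isBasis_affineOpens.exists_subset_of_mem_open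
      (Set.mem_univ v) isOpen_univ
    exact ⟨O, hO, hvO⟩
  exact ⟨O, O, hvO, isInvariant_of_universallyInjective g D O, le_rfl, hO⟩

end Groth.Agent.H3.IQA
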