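import Groth.Agent.Lib.Helper3.IQA.Inv
import Groth.Agent.Lib.Helper3.IQA.IndQAffProp
import Groth.Agent.Lib.Helper3.DescSh.Glue
import Groth.Agent.Lib.Helper3.DescSh.QAff
import Mathlib

/-!
# Restriction of a descent datum to an invariant open; descent of ind-quasi-affine morphisms
(helper3)
-/

set_option autoImplicit false
set_option backward.isDefEq.respectTransparency false
set_option backward.isDefEq.respectTransparency.types false

universe u

open CategoryTheory CategoryTheory.Limits AlgebraicGeometry Opposite TopologicalSpace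

namespace Groth.Agent.H3.IQA

open _root_.AlgSp Groth.Agent.H5.AlgSp Desc Groth.Agent.H3.DescSh

section restrict

variable {X S : Scheme.{u}} {p : X ⟶ S} (D : SchDD p) (O : D.obj.left.Opens)

/-- `O` is stable under the gluing bijections. -/
def IsInvariant : Prop :=
  ∀ ⦃T : Scheme.{u}⦄ (x₀ x₁ : T ⟶ X) (h : x₀ ≫ p = x₁ ≫ p) (v : Lifts D.obj x₀),
    Set.range v.1 ⊆ (O : Set D.obj.left) → Set.range (D.φ x₀ x₁ h v).1 ⊆ (O : Set D.obj.left)

/-- The open subscheme `O`, over `X`. -/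
abbrev resObj : Over X := Over.mk (O.ι ≫ D.obj.hom)

variable {D O} in
/-- A point of `O` as a point of `D.obj`. -/
def up {T : Scheme.{u}} {x : T ⟶ X} (w : Lifts (resObj D O) x) : Lifts D.obj x :=
  ⟨w.1 ≫ O.ι, by rw [Category.assoc]; exact w.2⟩

variable {D O} in
lemma range_up {T : Scheme.{u}} {x : T ⟶ X} (w : Lifts (resObj D O) x) :
    Set.range (up w).1 ⊆ (O : Set D.obj.left) := by
  rintro _ ⟨t, rfl⟩
  exact (w.1 t).2

variable {D O} in
/-- A point of `D.obj` landing in `O` as a point of `O`. -/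
noncomputable def down {T : Scheme.{u}} {x : T ⟶ X} (v : Lifts D.obj x)
    (hv : Set.range v.1 ⊆ (O : Set D.obj.left)) : Lifts (resObj D O) x :=
  ⟨IsOpenImmersion.lift O.ι v.1 (hv.trans (Scheme.Opens.range_ι O).ge), by
    change IsOpenImmersion.lift O.ι v.1 _ ≫ O.ι ≫ D.obj.hom = x
    rw [IsOpenImmersion.lift_fac_assoc]; exact v.2⟩

variable {D O} in
lemma down_val {T : Scheme.{u}} {x : T ⟶ X} (v : Lifts D.obj x)
    (hv : Set.range v.1 ⊆ (O : Set D.obj.left)) : (down v hv).1 ≫ O.ι = v.1 :=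
  IsOpenImmersion.lift_fac _ _ _

variable {D O} in
lemma up_down {T : Scheme.{u}} {x : T ⟶ X} (v : Lifts D.obj x)
    (hv : Set.range v.1 ⊆ (O : Set D.obj.left)) : up (down v hv) = v :=
  Subtype.ext (down_val v hv)

variable {D O} in
lemma down_up {T : Scheme.{u}} {x : T ⟶ X} (w : Lifts (resObj D O) x)
    (h : Set.range (up w).1 ⊆ (O : Set D.obj.left)) : down (up w) h = w :=
  Subtype.ext (by rw [← cancel_mono O.ι]; exact down_val _ _)

variable {D O} in
lemma down_congr {T : Scheme.{u}} {x : T ⟶ X} {v v' : Lifts D.obj x} (e : v = v')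
    (hv : Set.range v.1 ⊆ (O : Set D.obj.left)) (hv' : Set.range v'.1 ⊆ (O : Set D.obj.left)) :
    down v hv = down v' hv' := by
  subst e; rfl

variable {D O} in
lemma up_injective {T : Scheme.{u}} {x : T ⟶ X} {w w' : Lifts (resObj D O) x}
    (h : up w = up w') : w = w' := by
  apply Subtype.ext
  apply (cancel_mono O.ι).1
  exact congrArg Subtype.val h

/-- The gluing bijections of the restriction. -/
noncomputable def resφ (hO : IsInvariant D O) {T : Scheme.{u}} (x₀ x₁ : T ⟶ X)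
    (h : x₀ ≫ p = x₁ ≫ p) (w : Lifts (resObj D O) x₀) : Lifts (resObj D O) x₁ :=
  down (D.φ x₀ x₁ h (up w)) (hO x₀ x₁ h _ (range_up w))

lemma up_resφ (hO : IsInvariant D O) {T : Scheme.{u}} (x₀ x₁ : T ⟶ X)
    (h : x₀ ≫ p = x₁ ≫ p) (w : Lifts (resObj D O) x₀) :
    up (resφ D O hO x₀ x₁ h w) = D.φ x₀ x₁ h (up w) := up_down _ _

lemma resφ_val (hO : IsInvariant D O) {T : Scheme.{u}} (x₀ x₁ : T ⟶ X)
    (h : x₀ ≫ p = x₁ ≫ p) (w : Lifts (resObj D O) x₀) :
    (resφ D O hO x₀ x₁ h w).1 ≫ O.ι = (D.φ x₀ x₁ h (up w)).1 := down_val _ _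

/-- The restriction of a descent datum to an invariant open. -/
noncomputable def restrictDD (hO : IsInvariant D O) : SchDD p where
  obj := resObj D O
  φ T x₀ x₁ h :=
    { toFun := resφ D O hO x₀ x₁ h
      invFun := resφ D O hO x₁ x₀ h.symm
      left_inv := fun w => up_injective (by
        rw [up_resφ, up_resφ, D.φ_comp, D.φ_self])
      right_inv := fun w => up_injective (by
        rw [up_resφ, up_resφ, D.φ_comp, D.φ_self]) }
  φ_natural T T' g x₀ x₁ h h' v v' hv' := by
    apply (cancel_mono O.ι).1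
    change (resφ D O hO (g ≫ x₀) (g ≫ x₁) h' v').1 ≫ O.ι = (g ≫ (resφ D O hO x₀ x₁ h v).1) ≫ O.ι
    rw [Category.assoc, resφ_val, resφ_val]
    exact D.φ_natural g x₀ x₁ h h' (up v) (up v') (by
      change v'.1 ≫ O.ι = g ≫ v.1 ≫ O.ι
      rw [hv', Category.assoc])
  φ_self T x v := up_injective (by
    change up (resφ D O hO x x rfl v) = up v
    rw [up_resφ, D.φ_self])
  φ_comp T x₀ x₁ x₂ h₀₁ h₁₂ v := up_injective (by
    change up (resφ D O hO x₁ x₂ h₁₂ (resφ D O hO x₀ x₁ h₀₁ v)) =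
      up (resφ D O hO x₀ x₂ (h₀₁.trans h₁₂) v)
    rw [up_resφ, up_resφ, up_resφ, D.φ_comp])

/-- The inclusion of the restriction. -/
noncomputable def restrictHom (hO : IsInvariant D O) : restrictDD D O hO ⟶ D :=
  ⟨Over.homMk O.ι rfl, fun T x₀ x₁ h v w hw => by
    have e : w = up v := Subtype.ext hw
    subst e
    exact (resφ_val D O hO x₀ x₁ h v).symm⟩

end restrict

/-- **Affine case of descent for quasi-affine schemes.** -/
theorem effective_of_isQuasiAffine_left {X S : Scheme.{u}} [IsAffine X] [IsAffine S] (p : X ⟶ S)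
    [Flat p] [Surjective p] (D : SchDD p) (hD : D.obj.left.IsQuasiAffine) :
    ∃ U : Over S, Nonempty ((toDD p).obj U ≅ D) := by
  have sq := isPullback_kap ((SchDDFam.ofSchDD.{u} p).obj D) PUnit.unit
  have h1 : IsAffine (Over.mk (𝟙 S)).left := inferInstanceAs (IsAffine S)
  have h2 : IsAffine (XO (fun _ : PUnit.{u + 1} => p) PUnit.unit).left :=
    inferInstanceAs (IsAffine X)
  have h3 : (DO ((SchDDFam.ofSchDD.{u} p).obj D) PUnit.unit).left.IsQuasiAffine := hD
  have h4 : Flat (toBase (XO (fun _ : PUnit.{u + 1} => p) PUnit.unit)).left :=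
    inferInstanceAs (Flat p)
  have h5 : Surjective (toBase (XO (fun _ : PUnit.{u + 1} => p) PUnit.unit)).left :=
    inferInstanceAs (Surjective p)
  obtain ⟨W, w, e, -, -⟩ := exists_descent_of_isQuasiAffine_fpqc'
    (toBase (XO (fun _ : PUnit.{u + 1} => p) PUnit.unit))
    (dO ((SchDDFam.ofSchDD.{u} p).obj D) PUnit.unit)
    ((ptIsTerminal S).from (FDSh ((SchDDFam.ofSchDD.{u} p).obj D)))
    (kap ((SchDDFam.ofSchDD.{u} p).obj D) PUnit.unit)
    (isFpqcSheaf_FDSh ((SchDDFam.ofSchDD.{u} p).obj D)) sq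
  obtain ⟨Y, ⟨E⟩⟩ := isEffective_of_iso ((SchDDFam.ofSchDD.{u} p).obj D) e
  exact ⟨Y, ⟨(SchDDFam.toSchDD.{u} p).mapIso E⟩⟩

/-- **Affine case of descent for ind-quasi-affine morphisms.** -/
theorem effective_of_isIndQuasiAffine {X S : Scheme.{u}} [IsAffine X] [IsAffine S] (p : X ⟶ S)
    [Flat p] [Surjective p] (D : SchDD p) (hD : MoreMor.IsIndQuasiAffineHom D.obj.hom) :
    ∃ U : Over S, Nonempty ((toDD p).obj U ≅ D) := by
  have hqc : QuasiCompact p := by
    have : IsAffineHom p := isAffineHom_of_isAffine _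
    infer_instance
  have hV' : MoreMor.IsIndQuasiAffine D.obj.left := by
    intro U hU
    have : CompactSpace (U : Scheme.{u}) := isCompact_iff_compactSpace.mp hU
    exact (Groth.Agent.H1.isIndQuasiAffineHom_iff D.obj.hom).1 hD U U.ι ⊤ (isAffineOpen_top X)
      (fun _ _ => trivial)
  apply effective_of_locally_effective p D
  intro v
  have sq := isPullback_kap ((SchDDFam.ofSchDD.{u} p).obj D) PUnit.unit
  have h1 : IsAffine (Over.mk (𝟙 S)).left := inferInstanceAs (IsAffine S)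
  have h2 : IsAffine (XO (fun _ : PUnit.{u + 1} => p) PUnit.unit).left :=
    inferInstanceAs (IsAffine X)
  have h4 : Flat (toBase (XO (fun _ : PUnit.{u + 1} => p) PUnit.unit)).left :=
    inferInstanceAs (Flat p)
  have hV : MoreMor.IsIndQuasiAffine (DO ((SchDDFam.ofSchDD.{u} p).obj D) PUnit.unit).left := hV'
  obtain ⟨O, hOc, hvO, hOsat⟩ := exists_invariant_open sq hV v
  have hinv : IsInvariant D O := by
    intro T x₀ x₁ h w hw
    let Z : Over S := Over.mk (x₀ ≫ p)
    let a₁ : Z ⟶ DO ((SchDDFam.ofSchDD.{u} p).obj D) PUnit.unit := Over.homMk w.1 (by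
      change w.1 ≫ D.obj.hom ≫ p = x₀ ≫ p
      rw [← Category.assoc, w.2])
    let a₂ : Z ⟶ DO ((SchDDFam.ofSchDD.{u} p).obj D) PUnit.unit :=
      Over.homMk (D.φ x₀ x₁ h w).1 (by
        change (D.φ x₀ x₁ h w).1 ≫ D.obj.hom ≫ p = x₀ ≫ p
        rw [← Category.assoc, (D.φ x₀ x₁ h w).2, h])
    have heq : (yon S).map a₁ ≫ kap ((SchDDFam.ofSchDD.{u} p).obj D) PUnit.unit =
        (yon S).map a₂ ≫ kap ((SchDDFam.ofSchDD.{u} p).obj D) PUnit.unit := by
      apply (secEquiv ((SchDDFam.ofSchDD.{u} p).obj D) Z).injective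
      rw [secEquiv_map_kap ((SchDDFam.ofSchDD.{u} p).obj D) PUnit.unit a₁ x₀ w.2 rfl,
        secEquiv_map_kap ((SchDDFam.ofSchDD.{u} p).obj D) PUnit.unit a₂ x₁ (D.φ x₀ x₁ h w).2
          h.symm]
      exact (Kmk_φ ((SchDDFam.ofSchDD.{u} p).obj D) Z x₀ rfl x₁ h.symm w).symm
    exact hOsat a₁ a₂ heq hw
  refine ⟨restrictDD D O hinv, restrictHom D O hinv, ?_, ?_, ?_⟩
  · change IsOpenImmersion O.ι
    infer_instance
  · exact ⟨⟨v, hvO⟩, rfl⟩
  · apply effective_of_isQuasiAffine_left p (restrictDD D O hinv)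
    change Scheme.IsQuasiAffine (O : Scheme.{u})
    exact hV' O hOc

/-- **Descent data of ind-quasi-affine morphisms relative to an fpqc covering family are
effective.** -/
theorem isEffective_of_isIndQuasiAffine {S : Scheme.{u}} {ι : Type u} {X : ι → Scheme.{u}}
    (f : ∀ i, X i ⟶ S) (hf : Presieve.ofArrows X f ∈ Scheme.fpqcPrecoverage S)
    (D : Desc.SchDDFam f) (hD : ∀ i, MoreMor.IsIndQuasiAffineHom (D.obj i).hom) :
    D.IsEffective :=
  isEffective_of_fpqc_of_affine indQuasiAffineHoms.{u}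
    (prop_sigmaMap_fin_of_isZariskiLocalAtTarget indQuasiAffineHoms.{u})
    (fun X' S' p' hX' hS' hfl hsurj D' hD' => by
      have : IsAffine X' := hX'
      have : IsAffine S' := hS'
      have : Flat p' := hfl
      have : Surjective p' := hsurj
      exact effective_of_isIndQuasiAffine p' D' hD')
    f hf D hD

end Groth.Agent.H3.IQA
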