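import Groth.Agent.Lib.Helper3.DescSh.FpqcShDesc
import Groth.Agent.Lib.Helper5.AlgSp.AffineBase
import Groth.Agent.Lib.Helper5.AlgSp.PointsTop
import Groth.Agent.Lib.Helper1.IndQuasiAffine
import Mathlib

/-!
# The action groupoid of a sheaf which is a scheme after an fpqc base change (helper3)

`F` a sheaf over `T`, `c : T' ⟶ T`, and `h_V = F ×_T T'`.  We construct the action morphism
`act : T' ×_T V ⟶ V` and its basic properties, and the notion of saturation of open subsets.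
-/

set_option autoImplicit false

universe u

open CategoryTheory CategoryTheory.Limits AlgebraicGeometry Opposite

namespace Groth.Agent.H3.IQA

open _root_.AlgSp Groth.Agent.H5.AlgSp

variable {S : Scheme.{u}} {T T' V : Over S} {c : T' ⟶ T} {v : V ⟶ T'} {F : Sp S}
  {π : F ⟶ (yon S).obj T} {u : (yon S).obj V ⟶ F}
  (sq : IsPullback u ((yon S).map v) π ((yon S).map c))

include sq in
lemma act_compat : ((yon S).map (pullback.snd c (v ≫ c)) ≫ u) ≫ π =
    (yon S).map (pullback.fst c (v ≫ c)) ≫ (yon S).map c := by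
  rw [Category.assoc, sq.w, ← Functor.map_comp, ← Functor.map_comp, ← Functor.map_comp,
    pullback.condition]

/-- The action morphism `T' ×_T V ⟶ V`. -/
noncomputable def act : pullback c (v ≫ c) ⟶ V :=
  (yon S).preimage (sq.lift _ _ (act_compat sq))

lemma map_act : (yon S).map (act sq) = sq.lift _ _ (act_compat sq) :=
  (yon S).map_preimage _

lemma act_u : (yon S).map (act sq) ≫ u = (yon S).map (pullback.snd c (v ≫ c)) ≫ u := by
  rw [map_act, sq.lift_fst]

lemma act_v : act sq ≫ v = pullback.fst c (v ≫ c) := by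
  apply (yon S).map_injective
  rw [Functor.map_comp, map_act, sq.lift_snd]

include sq in
lemma hext {Z : Over S} (k l : Z ⟶ V) (h : (yon S).map k ≫ u = (yon S).map l ≫ u)
    (h' : k ≫ v = l ≫ v) : k = l := by
  apply (yon S).map_injective
  apply sq.hom_ext h
  rw [← Functor.map_comp, ← Functor.map_comp, h']

include sq in
lemma v_c_eq {Z : Over S} (x₁ x₂ : Z ⟶ V) (h : (yon S).map x₁ ≫ u = (yon S).map x₂ ≫ u) :
    x₁ ≫ v ≫ c = x₂ ≫ v ≫ c := by
  have h0 := congrArg (· ≫ π) h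
  simp only [Category.assoc, sq.w] at h0
  rw [← Functor.map_comp_assoc, ← Functor.map_comp_assoc, ← Functor.map_comp,
    ← Functor.map_comp] at h0
  rw [← Category.assoc, ← Category.assoc]
  exact (yon S).map_injective h0

/-- The point of `T' ×_T V` attached to two points of `V` with the same image in `F`:
its second projection is `x₁` and its image under the action is `x₂`. -/
noncomputable def pairLift {Z : Over S} (x₁ x₂ : Z ⟶ V)
    (h : (yon S).map x₁ ≫ u = (yon S).map x₂ ≫ u) : Z ⟶ pullback c (v ≫ c) :=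
  pullback.lift (x₂ ≫ v) x₁ (by rw [Category.assoc, v_c_eq sq x₁ x₂ h])

lemma pairLift_fst {Z : Over S} (x₁ x₂ : Z ⟶ V)
    (h : (yon S).map x₁ ≫ u = (yon S).map x₂ ≫ u) :
    pairLift sq x₁ x₂ h ≫ pullback.fst c (v ≫ c) = x₂ ≫ v := pullback.lift_fst _ _ _

lemma pairLift_snd {Z : Over S} (x₁ x₂ : Z ⟶ V)
    (h : (yon S).map x₁ ≫ u = (yon S).map x₂ ≫ u) :
    pairLift sq x₁ x₂ h ≫ pullback.snd c (v ≫ c) = x₁ := pullback.lift_snd _ _ _

lemma pairLift_act {Z : Over S} (x₁ x₂ : Z ⟶ V)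
    (h : (yon S).map x₁ ≫ u = (yon S).map x₂ ≫ u) :
    pairLift sq x₁ x₂ h ≫ act sq = x₂ := by
  apply hext sq
  · rw [Functor.map_comp, Category.assoc, act_u, ← Category.assoc, ← Functor.map_comp,
      pairLift_snd, h]
  · rw [Category.assoc, act_v, pairLift_fst]

/-- The unit section `V ⟶ T' ×_T V`. -/
noncomputable def unitSec (c : T' ⟶ T) (v : V ⟶ T') : V ⟶ pullback c (v ≫ c) :=
  pullback.lift v (𝟙 V) (by rw [Category.id_comp])

lemma unitSec_fst : unitSec c v ≫ pullback.fst c (v ≫ c) = v := pullback.lift_fst _ _ _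

lemma unitSec_snd : unitSec c v ≫ pullback.snd c (v ≫ c) = 𝟙 V := pullback.lift_snd _ _ _

lemma unitSec_act : unitSec c v ≫ act sq = 𝟙 V := by
  apply hext sq
  · rw [Functor.map_comp, Category.assoc, act_u, ← Category.assoc, ← Functor.map_comp,
      unitSec_snd]
  · rw [Category.assoc, act_v, unitSec_fst, Category.id_comp]

/-- `m₁ : T' ×_T (T' ×_T V) ⟶ T' ×_T V`, `(x, (x', w)) ↦ (x, act (x', w))`. -/
noncomputable def m₁ :
    pullback c (pullback.snd c (v ≫ c) ≫ v ≫ c) ⟶ pullback c (v ≫ c) :=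
  pullback.lift (pullback.fst c (pullback.snd c (v ≫ c) ≫ v ≫ c))
    (pullback.snd c (pullback.snd c (v ≫ c) ≫ v ≫ c) ≫ act sq) (by
      rw [Category.assoc, ← Category.assoc (act sq), act_v, pullback.condition,
        pullback.condition])

/-- `m₂ : T' ×_T (T' ×_T V) ⟶ T' ×_T V`, `(x, (x', w)) ↦ (x, w)`. -/
noncomputable def m₂ (c : T' ⟶ T) (v : V ⟶ T') :
    pullback c (pullback.snd c (v ≫ c) ≫ v ≫ c) ⟶ pullback c (v ≫ c) :=
  pullback.lift (pullback.fst c (pullback.snd c (v ≫ c) ≫ v ≫ c))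
    (pullback.snd c (pullback.snd c (v ≫ c) ≫ v ≫ c) ≫ pullback.snd c (v ≫ c)) (by
      rw [Category.assoc, pullback.condition])

lemma m₁_fst : m₁ sq ≫ pullback.fst c (v ≫ c) =
    pullback.fst c (pullback.snd c (v ≫ c) ≫ v ≫ c) := pullback.lift_fst _ _ _

lemma m₁_snd : m₁ sq ≫ pullback.snd c (v ≫ c) =
    pullback.snd c (pullback.snd c (v ≫ c) ≫ v ≫ c) ≫ act sq := pullback.lift_snd _ _ _

lemma m₂_fst : m₂ c v ≫ pullback.fst c (v ≫ c) =
    pullback.fst c (pullback.snd c (v ≫ c) ≫ v ≫ c) := pullback.lift_fst _ _ _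

lemma m₂_snd : m₂ c v ≫ pullback.snd c (v ≫ c) =
    pullback.snd c (pullback.snd c (v ≫ c) ≫ v ≫ c) ≫ pullback.snd c (v ≫ c) :=
  pullback.lift_snd _ _ _

lemma m₁_act : m₁ sq ≫ act sq = m₂ c v ≫ act sq := by
  apply hext sq
  · have e1 : (yon S).map (m₁ sq) ≫ (yon S).map (pullback.snd c (v ≫ c)) =
        (yon S).map (pullback.snd c (pullback.snd c (v ≫ c) ≫ v ≫ c)) ≫ (yon S).map (act sq) := by
      rw [← Functor.map_comp, m₁_snd, Functor.map_comp]
    have e2 : (yon S).map (m₂ c v) ≫ (yon S).map (pullback.snd c (v ≫ c)) =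
        (yon S).map (pullback.snd c (pullback.snd c (v ≫ c) ≫ v ≫ c)) ≫
          (yon S).map (pullback.snd c (v ≫ c)) := by
      rw [← Functor.map_comp, m₂_snd, Functor.map_comp]
    rw [Functor.map_comp, Functor.map_comp, Category.assoc, Category.assoc, act_u,
      reassoc_of% e1, reassoc_of% e2, act_u]
  · rw [Category.assoc, Category.assoc, act_v, m₁_fst, m₂_fst]

/-! ### Saturation -/

/-- Every point with the same image in `F` as a point of `U` lies in `U'`. -/
def Sat (u : (yon S).obj V ⟶ F) (U U' : V.left.Opens) : Prop :=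
  ∀ ⦃Z : Over S⦄ (x₁ x₂ : Z ⟶ V), (yon S).map x₁ ≫ u = (yon S).map x₂ ≫ u →
    Set.range x₁.left ⊆ (U : Set V.left) → Set.range x₂.left ⊆ (U' : Set V.left)

lemma Sat.mono {U₁ U₂ U₁' U₂' : V.left.Opens} (h : Sat u U₁ U₁') (h1 : U₂ ≤ U₁) (h2 : U₁' ≤ U₂') :
    Sat u U₂ U₂' := fun _ x₁ x₂ hx hr => (h x₁ x₂ hx (hr.trans h1)).trans h2

lemma Sat.snd_le_act {U U' : V.left.Opens} (h : Sat u U U') :
    (pullback.snd c (v ≫ c)).left ⁻¹ᵁ U ≤ (act sq).left ⁻¹ᵁ U' := by
  intro r hr
  have h1 := h (overOpenι (pullback c (v ≫ c)) ((pullback.snd c (v ≫ c)).left ⁻¹ᵁ U) ≫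
      pullback.snd c (v ≫ c))
    (overOpenι (pullback c (v ≫ c)) ((pullback.snd c (v ≫ c)).left ⁻¹ᵁ U) ≫ act sq)
    (by rw [Functor.map_comp, Functor.map_comp, Category.assoc, Category.assoc, act_u])
    (by
      rintro _ ⟨w, rfl⟩
      exact w.2)
  exact h1 ⟨⟨r, hr⟩, rfl⟩

lemma Sat.act_le_snd {U U' : V.left.Opens} (h : Sat u U U') :
    (act sq).left ⁻¹ᵁ U ≤ (pullback.snd c (v ≫ c)).left ⁻¹ᵁ U' := by
  intro r hr
  have h1 := h (overOpenι (pullback c (v ≫ c)) ((act sq).left ⁻¹ᵁ U) ≫ act sq)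
    (overOpenι (pullback c (v ≫ c)) ((act sq).left ⁻¹ᵁ U) ≫ pullback.snd c (v ≫ c))
    (by rw [Functor.map_comp, Functor.map_comp, Category.assoc, Category.assoc, act_u])
    (by
      rintro _ ⟨w, rfl⟩
      exact w.2)
  exact h1 ⟨⟨r, hr⟩, rfl⟩

lemma isAffineHom_snd [IsAffine T.left] [IsAffine T'.left] :
    IsAffineHom (pullback.snd c (v ≫ c)).left := by
  have : IsAffineHom c.left := isAffineHom_of_isAffine _
  have h0 : IsAffineHom (pullback.snd c.left (v ≫ c).left) :=
    MorphismProperty.pullback_snd (P := @IsAffineHom) _ _ inferInstance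
  exact (left_pullback_snd_iff @IsAffineHom c (v ≫ c)).2 h0

include sq in
/-- Every quasi-compact open is contained in a quasi-compact open containing its saturation. -/
theorem exists_sat [IsAffine T.left] [IsAffine T'.left] (U : V.left.Opens)
    (hU : IsCompact (U : Set V.left)) :
    ∃ U' : V.left.Opens, IsCompact (U' : Set V.left) ∧ U ≤ U' ∧ Sat u U U' := by
  have := isAffineHom_snd (c := c) (v := v)
  have hc : IsCompact ((pullback.snd c (v ≫ c)).left ⁻¹' (U : Set V.left)) :=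
    QuasiCompact.isCompact_preimage (f := (pullback.snd c (v ≫ c)).left) _ U.2 hU
  have hK : IsCompact ((act sq).left '' ((pullback.snd c (v ≫ c)).left ⁻¹' (U : Set V.left)) ∪
      (U : Set V.left)) := (hc.image (act sq).left.continuous).union hU
  obtain ⟨U', hU', hKU', -⟩ := Groth.Agent.H1.exists_compact_opens_between hK ⊤
    (fun _ _ => trivial)
  have hUU' : U ≤ U' := by
    intro x hx
    exact hKU' (Or.inr hx)
  refine ⟨U', hU', hUU', ?_⟩
  intro Z x₁ x₂ hx hr
  rintro _ ⟨z, rfl⟩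
  apply hKU'
  left
  refine ⟨(pairLift sq x₁ x₂ hx).left z, ?_, ?_⟩
  · change ((pairLift sq x₁ x₂ hx).left ≫ (pullback.snd c (v ≫ c)).left) z ∈ (U : Set V.left)
    rw [← Over.comp_left, pairLift_snd]
    exact hr ⟨z, rfl⟩
  · change ((pairLift sq x₁ x₂ hx).left ≫ (act sq).left) z = _
    rw [← Over.comp_left, pairLift_act]

end Groth.Agent.H3.IQA
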